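import Mathlib
import Cfsg.Agent.Lib.Sp.Witt

set_option autoImplicit false
set_option linter.unusedSimpArgs false
set_option linter.deprecated false

/-!
Elements of the isometry group of an alternating form used for the minimal index of a proper subgroup:
transvections, the unipotent radical of a point, the torus of a hyperbolic pair and the group fixing the pair.
-/

namespace CfsgLib.KnownSimple.SpMin

open CfsgLib.Sp
open LinearMap (BilinForm)

variable {F V : Type*} [Field F] [AddCommGroup V] [Module F V] {B : BilinForm F V}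

theorem gext {g h : isom B} (e : ∀ x, g.1 x = h.1 x) : g = h :=
  Subtype.ext (LinearEquiv.ext e)

theorem mul_apply' (g h : isom B) (x : V) : (g * h).1 x = g.1 (h.1 x) := rfl

theorem one_apply' (x : V) : (1 : isom B).1 x = x := rfl

theorem inv_apply_self (g : isom B) (x : V) : (g⁻¹).1 (g.1 x) = x := g.1.symm_apply_apply x

theorem apply_inv_self (g : isom B) (x : V) : g.1 ((g⁻¹).1 x) = x := g.1.apply_symm_apply x

/-- transvection in the isometry group -/
def tg (hA : B.IsAlt) (v : V) (c : F) : isom B := ⟨tvec B hA v c, tvec_mem_isom v c⟩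

/-- `x ↦ x + B(x,p) w + B(x,w) p` for orthogonal `p`, `w` -/
def eg (hA : B.IsAlt) (p w : V) : isom B := tg hA (p + w) 1 * tg hA p (-1) * tg hA w (-1)

variable (hA : B.IsAlt)

@[simp] theorem tg_apply (v : V) (c : F) (x : V) : (tg hA v c).1 x = x + (c * B x v) • v := rfl

theorem tg_mul (v : V) (a b : F) : tg hA v a * tg hA v b = tg hA v (a + b) :=
  Subtype.ext (tvec_mul (hA := hA) v a b)

theorem tg_zero (v : V) : tg hA v (0 : F) = 1 := gext fun x => by simp [one_apply']

theorem tg_smul (v : V) (a c : F) : tg hA (a • v) c = tg hA v (c * a * a) :=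
  Subtype.ext (tvec_smul (hA := hA) v a c)

theorem tg_conj (g : isom B) (v : V) (c : F) : g * tg hA v c * g⁻¹ = tg hA (g.1 v) c :=
  Subtype.ext (conj_tvec (hA := hA) g.1 g.2 v c)

theorem eg_conj (g : isom B) (p w : V) : g * eg hA p w * g⁻¹ = eg hA (g.1 p) (g.1 w) := by
  simp only [eg, ← map_add]
  rw [← tg_conj hA g, ← tg_conj hA g, ← tg_conj hA g]
  group

theorem eg_apply {p w : V} (h : B p w = 0) (x : V) :
    (eg hA p w).1 x = x + B x p • w + B x w • p := by
  have h' : B w p = 0 := by rw [alt_flip hA p w, h, neg_zero]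
  simp only [eg, mul_apply', tg_apply, map_add, map_smul, LinearMap.add_apply, LinearMap.smul_apply,
    smul_eq_mul, hA.self_eq_zero, h, h']
  module

theorem tg_comm {v w : V} (h : B v w = 0) (a b : F) : tg hA v a * tg hA w b = tg hA w b * tg hA v a := by
  have h' : B w v = 0 := by rw [alt_flip hA v w, h, neg_zero]
  refine gext fun x => ?_
  simp only [mul_apply', tg_apply, map_add, map_smul, LinearMap.add_apply, LinearMap.smul_apply,
    smul_eq_mul, h, h']
  module

theorem eg_mul {p w w' : V} (h : B p w = 0) (h' : B p w' = 0) :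
    eg hA p w * eg hA p w' = tg hA p (B w' w) * eg hA p (w + w') := by
  have hw : B w p = 0 := by rw [alt_flip hA p w, h, neg_zero]
  have hw' : B w' p = 0 := by rw [alt_flip hA p w', h', neg_zero]
  refine gext fun x => ?_
  rw [mul_apply', mul_apply', eg_apply hA h', eg_apply hA h,
    eg_apply hA (show B p (w + w') = 0 by rw [map_add, h, h', add_zero]), tg_apply]
  simp only [map_add, map_smul, LinearMap.add_apply, LinearMap.smul_apply, smul_eq_mul, hA.self_eq_zero,
    hw, hw', h]
  module

theorem eg_zero (p : V) : eg hA p 0 = 1 := by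
  refine gext fun x => ?_
  rw [eg_apply hA (by simp)]
  simp [one_apply']

theorem tg_comm_eg {p w : V} (h : B p w = 0) (a : F) : tg hA p a * eg hA p w = eg hA p w * tg hA p a := by
  have hp : (eg hA p w).1 p = p := by rw [eg_apply hA h, hA.self_eq_zero, h]; simp
  have := tg_conj hA (eg hA p w) p a
  rw [hp] at this
  conv_lhs => rw [← this]
  group

/-- symmetry of the elements of the two unipotent radicals -/
theorem eg_swap {p x : V} (h : B p x = 0) (δ : F) : eg hA p (δ • x) = eg hA x (δ • p) := by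
  have h' : B x p = 0 := by rw [alt_flip hA p x, h, neg_zero]
  refine gext fun y => ?_
  rw [eg_apply hA (by rw [map_smul, h, smul_zero]), eg_apply hA (by rw [map_smul, h', smul_zero])]
  simp only [map_smul, smul_smul, smul_eq_mul]
  module

/-- the product formula behind the vanishing of translations -/
theorem tg_identity {u v : V} (h : B u v = 0) (c : F) :
    tg hA (v + u) c * tg hA (v + (-1 : F) • u) c = tg hA v (2 * c) * tg hA u (2 * c) := by
  have h' : B v u = 0 := by rw [alt_flip hA u v, h, neg_zero]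
  refine gext fun x => ?_
  simp only [mul_apply', tg_apply, map_add, map_smul, LinearMap.add_apply, LinearMap.smul_apply,
    smul_eq_mul, hA.self_eq_zero, h, h']
  module

variable (B) in
/-- a hyperbolic pair in a non-degenerate alternating space -/
structure Frame where
  alt : B.IsAlt
  sep : B.SeparatingLeft
  p : V
  p' : V
  pair : B p p' = 1

include hA in
theorem exists_frame (hB : B.SeparatingLeft) {p : V} (hp : p ≠ 0) :
    ∃ P : Frame B, P.p = p := by
  obtain ⟨v, hv⟩ : ∃ v, B p v ≠ 0 := by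
    by_contra hc
    push Not at hc
    exact hp (hB p hc)
  exact ⟨⟨hA, hB, p, (B p v)⁻¹ • v, by rw [map_smul, smul_eq_mul, inv_mul_cancel₀ hv]⟩, rfl⟩

include hA in
theorem exists_frame_orth (hB : B.SeparatingLeft) {p x : V} (hp : p ≠ 0) (hx : x ∉ Submodule.span F {p}) :
    ∃ P : Frame B, P.p = p ∧ B x P.p' = 0 := by
  obtain ⟨v, hv, hpv⟩ := CfsgLib.Forms.exists_orth_pair_one (σ := RingHom.id F) Function.surjective_id B hB
    ![x] p (by
      intro h
      rw [Matrix.range_cons, Matrix.range_empty, Set.union_empty, Submodule.mem_span_singleton] at h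
      obtain ⟨a, rfl⟩ := h
      by_cases ha : a = 0
      · exact hp (by rw [ha, zero_smul])
      · exact hx (Submodule.mem_span_singleton.mpr ⟨a⁻¹, inv_smul_smul₀ ha x⟩))
  exact ⟨⟨hA, hB, p, v, hpv⟩, rfl, by simpa using hv 0⟩

namespace Frame

variable (P : Frame B)

theorem p_ne : P.p ≠ 0 := fun h => by simpa [h] using P.pair

theorem p'p : B P.p' P.p = -1 := by rw [alt_flip P.alt P.p P.p', P.pair]

/-- the orthogonal of the pair -/
def W : Submodule F V where
  carrier := {w | B w P.p = 0 ∧ B w P.p' = 0}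
  zero_mem' := by simp
  add_mem' := by
    intro a b ha hb
    exact ⟨by simp [ha.1, hb.1], by simp [ha.2, hb.2]⟩
  smul_mem' := by
    intro c a ha
    exact ⟨by simp [ha.1], by simp [ha.2]⟩

theorem mem_W {w : V} : w ∈ P.W ↔ B w P.p = 0 ∧ B w P.p' = 0 := Iff.rfl

theorem p_perp (w : P.W) : B P.p (w : V) = 0 := by rw [alt_flip P.alt (w : V) P.p, w.2.1, neg_zero]

theorem p'_perp (w : P.W) : B P.p' (w : V) = 0 := by rw [alt_flip P.alt (w : V) P.p', w.2.2, neg_zero]

/-- the component in the plane removed -/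
def proj (x : V) : P.W :=
  ⟨x - B x P.p' • P.p + B x P.p • P.p', by
    constructor <;> simp [P.alt.self_eq_zero, P.pair, P.p'p]⟩

theorem decomp (x : V) : x = (P.proj x : V) + B x P.p' • P.p + (-B x P.p) • P.p' := by
  simp only [proj]
  module

theorem exists_nonperp (u : P.W) (hu : u ≠ 0) : ∃ v : P.W, B (u : V) (v : V) ≠ 0 := by
  by_contra hc
  push Not at hc
  refine hu (Subtype.ext (P.sep _ fun x => ?_))
  rw [P.decomp x]
  simp [hc, u.2.1, u.2.2]

theorem exists_pair_W (u : P.W) (hu : u ≠ 0) (a : F) : ∃ v : P.W, B (u : V) (v : V) = a := by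
  obtain ⟨v, hv⟩ := P.exists_nonperp u hu
  exact ⟨(a / B (u : V) (v : V)) • v, by simp [hv]⟩

/-- elements fixing the pair -/
def Gw : Subgroup (isom B) where
  carrier := {g | g.1 P.p = P.p ∧ g.1 P.p' = P.p'}
  one_mem' := ⟨rfl, rfl⟩
  mul_mem' {a b} ha hb := ⟨by rw [mul_apply', hb.1, ha.1], by rw [mul_apply', hb.2, ha.2]⟩
  inv_mem' {a} ha := ⟨by conv_lhs => rw [← ha.1, inv_apply_self],
    by conv_lhs => rw [← ha.2, inv_apply_self]⟩

theorem gw_mem_W {g : isom B} (hg : g ∈ P.Gw) {w : V} (hw : w ∈ P.W) : g.1 w ∈ P.W := by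
  constructor
  · conv_lhs => rw [← hg.1, g.2, hw.1]
  · conv_lhs => rw [← hg.2, g.2, hw.2]

/-- action on the orthogonal of the pair -/
def act (g : P.Gw) (w : P.W) : P.W := ⟨g.1.1 w, P.gw_mem_W g.2 w.2⟩

@[simp] theorem act_coe (g : P.Gw) (w : P.W) : (P.act g w : V) = g.1.1 (w : V) := rfl

theorem act_one (w : P.W) : P.act 1 w = w := rfl

theorem act_mul (g h : P.Gw) (w : P.W) : P.act (g * h) w = P.act g (P.act h w) := rfl

theorem act_inv (g : P.Gw) (w : P.W) : P.act g⁻¹ (P.act g w) = w := by
  rw [← act_mul, inv_mul_cancel, act_one]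

theorem act_inv' (g : P.Gw) (w : P.W) : P.act g (P.act g⁻¹ w) = w := by
  rw [← act_mul, mul_inv_cancel, act_one]

theorem act_add (g : P.Gw) (w v : P.W) : P.act g (w + v) = P.act g w + P.act g v :=
  Subtype.ext (map_add g.1.1 (w : V) (v : V))

theorem act_smul (g : P.Gw) (c : F) (w : P.W) : P.act g (c • w) = c • P.act g w :=
  Subtype.ext (map_smul g.1.1 c (w : V))

theorem act_zero (g : P.Gw) : P.act g 0 = 0 := Subtype.ext (map_zero g.1.1)

theorem act_B (g : P.Gw) (w v : P.W) : B (P.act g w : V) (P.act g v : V) = B (w : V) (v : V) :=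
  g.1.2 _ _

theorem tg_mem_Gw {v : V} (hv : v ∈ P.W) (c : F) : tg P.alt v c ∈ P.Gw := by
  constructor
  · simp [show B P.p v = 0 from P.p_perp ⟨v, hv⟩]
  · simp [show B P.p' v = 0 from P.p'_perp ⟨v, hv⟩]

/-- transvection centred in the orthogonal of the pair -/
def tW (v : P.W) (c : F) : P.Gw := ⟨tg P.alt (v : V) c, P.tg_mem_Gw v.2 c⟩

theorem act_tW (v : P.W) (c : F) (w : P.W) : P.act (P.tW v c) w = w + (c * B (w : V) (v : V)) • v := rfl

theorem trans_W [FiniteDimensional F V] (u u' : P.W) (hu : u ≠ 0) (hu' : u' ≠ 0) :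
    ∃ g : P.Gw, P.act g u = u' := by
  have ind : ∀ w : P.W, w ≠ 0 → LinearIndependent F ![P.p, P.p', (w : V)] := by
    intro w hw
    rw [Fintype.linearIndependent_iff]
    intro f hf
    simp only [Fin.sum_univ_three, Matrix.cons_val_zero, Matrix.cons_val_one, Matrix.cons_val] at hf
    have h1 : f 1 = 0 := by
      have := congrArg (fun x => B x P.p) hf
      simpa [P.alt.self_eq_zero, P.p'p, w.2.1] using this
    have h0 : f 0 = 0 := by
      have := congrArg (fun x => B x P.p') hf
      simpa [P.alt.self_eq_zero, P.pair, w.2.2] using this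
    have h2 : f 2 = 0 := by
      rw [h0, h1, zero_smul, zero_smul, zero_add, zero_add, smul_eq_zero] at hf
      exact hf.resolve_right fun h => hw (Subtype.ext h)
    intro i
    fin_cases i <;> assumption
  obtain ⟨g, hg, hgx⟩ := witt_family P.alt P.sep ![P.p, P.p', (u : V)] ![P.p, P.p', (u' : V)] (ind u hu)
    (ind u' hu') (fun i j => by
      fin_cases i <;> fin_cases j <;>
        simp [P.alt.self_eq_zero, P.pair, P.p'p, u.2.1, u.2.2, u'.2.1, u'.2.2, P.p_perp, P.p'_perp])
  exact ⟨⟨⟨g, transvGroup_le_isom hg⟩, hgx 0, hgx 1⟩, Subtype.ext (hgx 2)⟩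

/-- the map `p ↦ c p`, `p' ↦ c⁻¹ p'` -/
def zLin (c : F) : V →ₗ[F] V where
  toFun x := x + ((c - 1) * B x P.p') • P.p + ((1 - c⁻¹) * B x P.p) • P.p'
  map_add' x y := by simp only [map_add, LinearMap.add_apply]; module
  map_smul' a x := by simp only [map_smul, LinearMap.smul_apply, smul_eq_mul, RingHom.id_apply]; module

theorem zLin_zLin {c : F} (hc : c ≠ 0) (x : V) : P.zLin c (P.zLin c⁻¹ x) = x := by
  simp only [zLin, LinearMap.coe_mk, AddHom.coe_mk, map_add, map_smul, LinearMap.add_apply,
    LinearMap.smul_apply, P.alt.self_eq_zero, P.pair, P.p'p, smul_eq_mul, inv_inv]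
  match_scalars <;> field_simp <;> ring

/-- the torus of the pair -/
def zc (c : Fˣ) : isom B :=
  ⟨LinearEquiv.ofLinear (P.zLin (c : F)) (P.zLin (c : F)⁻¹)
    (LinearMap.ext fun x => P.zLin_zLin c.ne_zero x)
    (LinearMap.ext fun x => by simpa using P.zLin_zLin (inv_ne_zero c.ne_zero) x), fun x y => by
    simp only [LinearEquiv.ofLinear_apply, zLin, LinearMap.coe_mk, AddHom.coe_mk, map_add, map_smul,
      LinearMap.add_apply, LinearMap.smul_apply, P.alt.self_eq_zero, P.pair, P.p'p, smul_eq_mul,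
      alt_flip P.alt x P.p, alt_flip P.alt x P.p', alt_flip P.alt y P.p, alt_flip P.alt y P.p']
    field_simp
    ring⟩

theorem zc_apply (c : Fˣ) (x : V) :
    (P.zc c).1 x = x + (((c : F) - 1) * B x P.p') • P.p + ((1 - (c : F)⁻¹) * B x P.p) • P.p' := rfl

theorem zc_p (c : Fˣ) : (P.zc c).1 P.p = (c : F) • P.p := by
  rw [zc_apply, P.alt.self_eq_zero, P.pair]; module

theorem zc_W (c : Fˣ) (w : P.W) : (P.zc c).1 (w : V) = w := by
  rw [zc_apply, w.2.1, w.2.2]; simp

theorem zc_comm (c : Fˣ) {g : isom B} (hg : g ∈ P.Gw) : g * P.zc c = P.zc c * g := by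
  refine gext fun x => ?_
  have h1 : B (g.1 x) P.p = B x P.p := by conv_lhs => rw [← hg.1, g.2]
  have h2 : B (g.1 x) P.p' = B x P.p' := by conv_lhs => rw [← hg.2, g.2]
  simp only [mul_apply', zc_apply, map_add, map_smul, hg.1, hg.2, h1, h2]

theorem zc_mul (c d : Fˣ) : P.zc c * P.zc d = P.zc (c * d) := by
  refine gext fun x => ?_
  simp only [mul_apply', zc_apply, map_add, map_smul, LinearMap.add_apply, LinearMap.smul_apply,
    P.alt.self_eq_zero, P.pair, P.p'p, smul_eq_mul, Units.val_mul]
  have h1 := c.ne_zero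
  have h2 := d.ne_zero
  match_scalars <;> field_simp <;> ring

theorem zc_one : P.zc 1 = 1 := gext fun x => by simp [zc_apply, one_apply']

/-- minus the identity on the orthogonal of the pair -/
def sig : P.Gw :=
  ⟨⟨(P.zc (-1)).1.trans (LinearEquiv.neg F), fun x y => by
    simp only [LinearEquiv.trans_apply, LinearEquiv.neg_apply, map_neg, LinearMap.neg_apply, neg_neg]
    exact (P.zc (-1)).2 x y⟩, by
    constructor
    · show -((P.zc (-1)).1 P.p) = P.p
      rw [zc_p]; simp
    · show -((P.zc (-1)).1 P.p') = P.p'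
      rw [zc_apply, P.alt.self_eq_zero, P.p'p, Units.val_neg, Units.val_one, inv_neg, inv_one]
      module⟩

theorem act_sig (w : P.W) : P.act P.sig w = -w :=
  Subtype.ext (show -((P.zc (-1)).1 (w : V)) = -(w : V) by rw [zc_W])

theorem sig_comm (g : P.Gw) : P.sig * g = g * P.sig := by
  refine Subtype.ext (gext fun x => ?_)
  show -((P.zc (-1)).1 (g.1.1 x)) = g.1.1 (-((P.zc (-1)).1 x))
  rw [map_neg, ← mul_apply', ← mul_apply', P.zc_comm _ g.2]

end Frame

end CfsgLib.KnownSimple.SpMin
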