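import Cfsg.Agent.Lib.KnownSimple.SpMinIndex.Orbits

set_option autoImplicit false
set_option linter.unusedSimpArgs false
set_option linter.unusedSectionVars false

/-!
Counting images of an orbit of the unipotent radical under the Levi factor.
-/

namespace CfsgLib.KnownSimple.SpMin

open CfsgLib.Sp
open LinearMap (BilinForm)
open scoped Pointwise

section field

variable {F : Type*} [Field F] [Finite F]

/-- number of copies of an additive subgroup under square scalings -/
noncomputable def cls (A : AddSubgroup F) : ℕ := (Set.range fun c : Fˣ => Frame.scl (c : F) A).ncard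

theorem cls_pos (A : AddSubgroup F) : 0 < cls A :=
  (Set.ncard_pos (Set.toFinite _)).mpr (Set.range_nonempty _)

/-- the multipliers of an additive subgroup -/
def multiplier (A : AddSubgroup F) : AddSubgroup F where
  carrier := {c | ∀ a ∈ A, c * a ∈ A}
  zero_mem' := fun a _ => by simp
  add_mem' := by
    intro x y hx hy a ha
    rw [add_mul]
    exact A.add_mem (hx a ha) (hy a ha)
  neg_mem' := by
    intro x hx a ha
    rw [neg_mul]
    exact A.neg_mem (hx a ha)

theorem multiplier_inv {A : AddSubgroup F} {c : F} (hc : c ∈ multiplier A) (h0 : c ≠ 0) :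
    c⁻¹ ∈ multiplier A := fun a ha => by
  obtain ⟨⟨b, hb⟩, hcb⟩ := (Finite.injective_iff_surjective (f := fun b : A => (⟨c * b.1, hc b.1 b.2⟩ : A))).mp
    (fun x y h => Subtype.ext (mul_left_cancel₀ h0 (congrArg Subtype.val h))) ⟨a, ha⟩
  have : c * b = a := congrArg Subtype.val hcb
  rw [← this, inv_mul_cancel_left₀ h0]
  exact hb

theorem card_fibres {α β : Type*} [Finite α] (f : α → β) (k : ℕ)
    (h : ∀ a, Nat.card {x // f x = f a} = k) : (Set.range f).ncard * k = Nat.card α := by
  classical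
  have := Fintype.ofFinite α
  rw [← Set.image_univ, ← Finset.coe_univ, ← Finset.coe_image, Set.ncard_coe_finset, Nat.card_eq_fintype_card,
    ← Finset.card_univ, Finset.card_eq_sum_card_image f Finset.univ,
    Finset.sum_const_nat (m := k) fun y hy => ?_]
  obtain ⟨a, -, rfl⟩ := Finset.mem_image.mp hy
  rw [← h a, Nat.card_eq_fintype_card, Fintype.card_subtype]

theorem cls_bound (A : AddSubgroup F) (hA : A ≠ ⊤) {i : ℕ} (hi : i * Nat.card A = Nat.card F)
    (hq : 3 ≤ Nat.card F) :
    Nat.card F + 2 ≤ 2 * (cls A * i) ∧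
      ((2 : F) = 0 → Nat.card F ≤ cls A * i ∧ (A ≠ ⊥ → Nat.card F + 2 ≤ cls A * i)) := by
  classical
  have := Fintype.ofFinite F
  set q := Nat.card F
  have hpos : 0 < cls A := cls_pos A
  by_cases hbot : A = ⊥
  · rw [hbot, AddSubgroup.card_bot, mul_one] at hi
    subst hi
    exact ⟨by nlinarith, fun _ => ⟨by nlinarith, fun h => absurd hbot h⟩⟩
  obtain ⟨y, hy⟩ : ∃ y, y ∉ A := by
    by_contra hc
    push Not at hc
    exact hA (eq_top_iff.mpr fun x _ => hc x)
  obtain ⟨a0, ha0, ha00⟩ : ∃ a ∈ A, a ≠ 0 := by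
    by_contra hc
    push Not at hc
    exact hbot ((AddSubgroup.eq_bot_iff_forall A).mpr hc)
  set M := multiplier A
  let St : Set Fˣ := {c | (c : F) ∈ M}
  let St2 : Set Fˣ := {c | (c : F) * c ∈ M}
  set k := Nat.card M
  have h1M : (1 : F) ∈ M := fun a ha => by simpa using ha
  have hkdvd : k ∣ q := AddSubgroup.card_addSubgroup_dvd_card M
  have hk : St.ncard + 1 = k := by
    have e : (M : Set F) = insert 0 (Units.val '' St) := by
      ext c
      constructor
      · intro hc
        by_cases h0 : c = 0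
        · exact Or.inl h0
        · exact Or.inr ⟨Units.mk0 c h0, hc, rfl⟩
      · rintro (rfl | ⟨u, hu, rfl⟩)
        · exact M.zero_mem
        · exact hu
    show _ = Nat.card (M : Set F)
    rw [Nat.card_coe_set_eq, e, Set.ncard_insert_of_notMem (by rintro ⟨u, -, h⟩; exact u.ne_zero h) (Set.toFinite _),
      Set.ncard_image_of_injective _ Units.val_injective]
  have hki : k ≤ i := by
    have hq' : Nat.card (F ⧸ A) = i := by
      have := AddSubgroup.card_eq_card_quotient_mul_card_addSubgroup A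
      rw [show Nat.card F = i * Nat.card A from hi.symm] at this
      exact (Nat.eq_of_mul_eq_mul_right Nat.card_pos this).symm
    rw [← hq']
    refine Nat.card_le_card_of_injective (fun c : M => ((c.1 * y : F) : F ⧸ A)) fun c d h => ?_
    rw [QuotientAddGroup.eq, ← neg_mul, ← add_mul] at h
    by_contra hne
    have h0 : -c.1 + d.1 ≠ 0 := fun h0 => hne (Subtype.ext (neg_add_eq_zero.mp h0))
    refine hy ?_
    have := multiplier_inv (M.add_mem (M.neg_mem c.2) d.2) h0 _ h
    rwa [inv_mul_cancel_left₀ h0] at this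
  have hkq : k ≠ q := fun hkq => by
    have htop : M = ⊤ := AddSubgroup.eq_top_of_card_eq M hkq
    have : y / a0 ∈ M := htop ▸ trivial
    exact hy (by simpa [div_mul_cancel₀ _ ha00] using this a0 ha0)
  have hcls : cls A * St2.ncard = q - 1 := by
    rw [show q - 1 = Nat.card Fˣ by rw [Nat.card_units]]
    refine card_fibres (fun c : Fˣ => Frame.scl (c : F) A) _ fun c₀ => ?_
    rw [← Nat.card_coe_set_eq]
    refine Nat.card_congr ((Equiv.mulLeft c₀⁻¹).subtypeEquiv fun c => ?_)
    show Frame.scl (c : F) A = Frame.scl (c₀ : F) A ↔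
      ((c₀⁻¹ * c : Fˣ) : F) * ((c₀⁻¹ * c : Fˣ) : F) ∈ M
    have h0 := c₀.ne_zero
    constructor
    · intro h a ha
      obtain ⟨b, hb, e⟩ : (c : F) * c * a ∈ Frame.scl (c₀ : F) A := h ▸ ⟨a, ha, rfl⟩
      convert hb using 1
      simp only [Units.val_mul, Units.val_inv_eq_inv_val]
      field_simp
      linear_combination e
    · intro h
      have hinv := multiplier_inv h (mul_ne_zero (Units.ne_zero _) (Units.ne_zero _))
      simp only [Units.val_mul, Units.val_inv_eq_inv_val] at h hinv
      ext a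
      constructor
      · rintro ⟨b, hb, rfl⟩
        exact ⟨_, h b hb, by field_simp⟩
      · rintro ⟨b, hb, rfl⟩
        refine ⟨_, hinv b hb, ?_⟩
        have := c.ne_zero
        field_simp
  have hSt2 : St2.ncard ≤ 2 * St.ncard := by
    let f : Fˣ → Fˣ := fun c => c * c
    have hsub : St2 ⊆ ⋃ s ∈ St, f ⁻¹' {s} := fun c hc => by
      simp only [Set.mem_iUnion, Set.mem_preimage, Set.mem_singleton_iff]
      exact ⟨c * c, by show ((c * c : Fˣ) : F) ∈ M; rw [Units.val_mul]; exact hc, rfl⟩
    refine (Set.ncard_le_ncard hsub (Set.toFinite _)).trans ?_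
    have hfin : St.Finite := Set.toFinite _
    rw [show (⋃ s ∈ St, f ⁻¹' {s}) = ⋃ s ∈ hfin.toFinset, f ⁻¹' {s} by ext; simp [hfin.mem_toFinset]; rfl]
    refine (Finset.set_ncard_biUnion_le _ _).trans ?_
    rw [mul_comm, Set.ncard_eq_toFinset_card _ hfin]
    refine Finset.sum_le_card_nsmul _ _ _ fun s _ => ?_
    by_contra hc
    push Not at hc
    obtain ⟨a, b, c, ha, hb, hc', hab, hac, hbc⟩ := (Set.two_lt_ncard_iff (Set.toFinite _)).mp hc
    simp only [Set.mem_preimage, Set.mem_singleton_iff, f, Units.ext_iff, Units.val_mul] at ha hb hc'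
    rcases mul_self_eq_mul_self_iff.mp (hb.trans ha.symm) with h1 | h1
    · exact hab (Units.ext h1.symm)
    rcases mul_self_eq_mul_self_iff.mp (hc'.trans ha.symm) with h2 | h2
    · exact hac (Units.ext h2.symm)
    exact hbc (Units.ext (h1.trans h2.symm))
  have hne2 : 2 * St.ncard ≠ q - 1 := by
    intro h
    have h2 : 2 * k = q + 1 := by omega
    have h3 : k ∣ q + 1 := ⟨2, by omega⟩
    have : k ∣ 1 := by simpa using Nat.dvd_sub h3 hkdvd
    have := Nat.eq_one_of_dvd_one this
    omega
  have hdiv : St.ncard ∣ q - 1 := by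
    let S : Subgroup Fˣ :=
      { carrier := St
        one_mem' := h1M
        mul_mem' := fun {x y} hx hy a ha => by
          rw [Units.val_mul, mul_assoc]
          exact hx _ (hy a ha)
        inv_mem' := fun {x} hx => by
          show ((x⁻¹ : Fˣ) : F) ∈ M
          rw [Units.val_inv_eq_inv_val]
          exact multiplier_inv hx x.ne_zero }
    rw [show q - 1 = Nat.card Fˣ by rw [Nat.card_units], ← Nat.card_coe_set_eq]
    exact Subgroup.card_subgroup_dvd_card S
  obtain ⟨t, ht⟩ := hdiv
  have hStpos : 0 < St.ncard := by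
    rcases Nat.eq_zero_or_pos St.ncard with h | h
    · rw [h, zero_mul] at ht; omega
    · exact h
  have hklt : k < q := lt_of_le_of_ne (Nat.le_of_dvd (by omega) hkdvd) hkq
  have ht3 : 3 ≤ t := by
    rcases t with _ | _ | _ | t <;> simp at ht ⊢ <;> omega
  have hmain : q + 2 ≤ t * i := by
    have h1 : t * (St.ncard + 1) ≤ t * i := Nat.mul_le_mul_left _ (by omega)
    rw [Nat.mul_add, mul_one, mul_comm t, ← ht] at h1
    omega
  have hct : t ≤ 2 * cls A := by
    refine Nat.le_of_mul_le_mul_left (c := St.ncard) ?_ hStpos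
    rw [← ht, ← hcls, ← mul_assoc, mul_comm (St.ncard) 2, mul_comm (cls A)]
    exact Nat.mul_le_mul_right _ hSt2
  refine ⟨by rw [← mul_assoc]; exact hmain.trans (Nat.mul_le_mul_right _ hct), fun h2 => ?_⟩
  have hSt2' : St2.ncard ≤ St.ncard := by
    refine Set.ncard_le_ncard_of_injOn (fun c => c * c) (fun c hc => ?_) (fun a _ b _ h => ?_) (Set.toFinite _)
    · show ((c * c : Fˣ) : F) ∈ M
      rw [Units.val_mul]; exact hc
    · have h' : (a : F) * a = b * b := by simpa [Units.ext_iff] using h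
      rcases mul_self_eq_mul_self_iff.mp h' with h1 | h1
      · exact Units.ext h1
      · refine Units.ext (h1.trans ?_)
        linear_combination -(b : F) * h2
  have hct' : t ≤ cls A := by
    refine Nat.le_of_mul_le_mul_left (c := St.ncard) ?_ hStpos
    rw [← ht, ← hcls, mul_comm (cls A)]
    exact Nat.mul_le_mul_right _ hSt2'
  have := hmain.trans (Nat.mul_le_mul_right i hct')
  exact ⟨by omega, fun _ => this⟩

end field

variable {F V : Type*} [Field F] [Finite F] [AddCommGroup V] [Module F V] [Finite V] {B : BilinForm F V}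

namespace Frame

variable (P : Frame B) {Ω : Type*} [MulAction (isom B) Ω] [Finite Ω]

/-- images of an orbit under the Levi factor -/
def img (ω : Ω) : Set (Set Ω) := Set.range fun x : P.Gw × Fˣ => P.orb (P.lev x.1 x.2 • ω)

/-- images whose dual contains a given vector -/
def through (ω : Ω) (u : P.W) : Set (Set Ω) := {s ∈ P.img ω | ∃ x ∈ s, u ∈ P.D x}

theorem mem_through {ω : Ω} {u : P.W} (g : P.Gw) (c : Fˣ) (h : u ∈ P.D (P.lev g c • ω)) :
    P.orb (P.lev g c • ω) ∈ P.through ω u := ⟨⟨(g, c), rfl⟩, _, P.orb_self _, h⟩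

theorem mem_through_iff {ω x : Ω} {u : P.W} (h : P.orb x ∈ P.through ω u) : u ∈ P.D x := by
  obtain ⟨-, y, hy, hu⟩ := h
  rwa [P.D_orb hy] at hu

theorem orb_ncard_lev (g : P.Gw) (c : Fˣ) (ω : Ω) :
    (P.orb (P.lev g c • ω)).ncard = (P.orb ω).ncard := by
  rw [← P.lev_orb, ← Set.image_smul, Set.ncard_image_of_injective _ (MulAction.injective _)]

theorem img_mul_le (ω : Ω) : (P.img ω).ncard * (P.orb ω).ncard ≤ Nat.card Ω := by
  classical
  have := Fintype.ofFinite Ω
  have hdis : ∀ s ∈ (P.img ω).toFinset, (P.orb ω).ncard ≤ (Finset.univ.filter fun x => P.orb x = s).card := by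
    intro s hs
    obtain ⟨⟨g, c⟩, rfl⟩ := Set.mem_toFinset.mp hs
    dsimp only
    rw [← P.orb_ncard_lev g c ω, Set.ncard_eq_toFinset_card']
    refine Finset.card_le_card fun x hx => ?_
    simp only [Finset.mem_filter, Finset.mem_univ, true_and]
    exact P.orb_eq (Set.mem_toFinset.mp hx)
  rw [Nat.card_eq_fintype_card, ← Finset.card_univ, Set.ncard_eq_toFinset_card']
  calc (P.img ω).toFinset.card * (P.orb ω).ncard
      = ∑ _s ∈ (P.img ω).toFinset, (P.orb ω).ncard := by rw [Finset.sum_const, smul_eq_mul]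
    _ ≤ ∑ s ∈ (P.img ω).toFinset, (Finset.univ.filter fun x => P.orb x = s).card := Finset.sum_le_sum hdis
    _ = (Finset.univ.filter fun x => P.orb x ∈ (P.img ω).toFinset).card := by
      rw [Finset.card_eq_sum_card_fiberwise (f := P.orb) (t := (P.img ω).toFinset)
        (s := Finset.univ.filter fun x => P.orb x ∈ (P.img ω).toFinset) (fun x hx => by simpa using hx)]
      refine Finset.sum_congr rfl fun s hs => ?_
      rw [Finset.filter_filter]
      congr 1
      ext x
      simp only [Finset.mem_filter, Finset.mem_univ, true_and]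
      exact ⟨fun h => ⟨h ▸ hs, h⟩, fun h => h.2⟩
    _ ≤ Finset.univ.card := Finset.card_le_univ _

theorem count (ω : Ω) (b : ℕ) (h : ∀ u : P.W, u ≠ 0 → b ≤ (P.through ω u).ncard) :
    (Nat.card P.W - 1) * b ≤ (P.img ω).ncard * (Nat.card (P.D ω) - 1) := by
  classical
  have := Fintype.ofFinite Ω
  have := Fintype.ofFinite P.W
  set us : Finset P.W := Finset.univ.erase 0
  set ss := (P.img ω).toFinset
  let r : P.W → Set Ω → Prop := fun u s => ∃ x ∈ s, u ∈ P.D x
  have h1 : ∑ u ∈ us, (Finset.bipartiteAbove r ss u).card = ∑ s ∈ ss, (Finset.bipartiteBelow r us s).card :=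
    Finset.sum_card_bipartiteAbove_eq_sum_card_bipartiteBelow r
  have h2 : ∀ u ∈ us, b ≤ (Finset.bipartiteAbove r ss u).card := by
    intro u hu
    refine (h u (Finset.ne_of_mem_erase hu)).trans (le_of_eq ?_)
    rw [← Set.ncard_coe_finset]
    congr 1
    ext s
    simp [through, ss, r, Finset.bipartiteAbove]
  have h3 : ∀ s ∈ ss, (Finset.bipartiteBelow r us s).card = Nat.card (P.D ω) - 1 := by
    intro s hs
    obtain ⟨⟨g, c⟩, rfl⟩ := Set.mem_toFinset.mp hs
    dsimp only
    have e : Finset.bipartiteBelow r us (P.orb (P.lev g c • ω)) =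
        ((P.D (P.lev g c • ω) : Set P.W).toFinset).erase 0 := by
      ext u
      simp only [Finset.bipartiteBelow, Finset.mem_filter, us, Finset.mem_erase, Finset.mem_univ, and_true,
        Set.mem_toFinset, SetLike.mem_coe, r]
      refine and_congr_right fun _ => ⟨fun ⟨x, hx, hu⟩ => P.D_orb hx ▸ hu, fun hu => ⟨_, P.orb_self _, hu⟩⟩
    rw [e, Finset.card_erase_of_mem (Set.mem_toFinset.mpr (zero_mem _)), ← Set.ncard_eq_toFinset_card',
      ← Nat.card_coe_set_eq]
    exact congrArg (· - 1) (P.card_D_mk g c ω)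
  rw [Finset.sum_congr rfl h3, Finset.sum_const, smul_eq_mul] at h1
  have h4 := Finset.sum_le_sum h2
  rw [Finset.sum_const, smul_eq_mul, h1, Finset.card_erase_of_mem (Finset.mem_univ _), Finset.card_univ,
    ← Nat.card_eq_fintype_card, ← Set.ncard_eq_toFinset_card'] at h4
  exact h4

theorem through_transfer [FiniteDimensional F V] (ω : Ω) {u u' : P.W} (hu : u ≠ 0) (hu' : u' ≠ 0) :
    (P.through ω u).ncard ≤ (P.through ω u').ncard := by
  obtain ⟨g, hg⟩ := P.trans_W u u' hu hu'
  refine Set.ncard_le_ncard_of_injOn (fun s => g.1 • s) (fun s hs => ?_)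
    (fun _ _ _ _ h => MulAction.injective g.1 h) (Set.toFinite _)
  obtain ⟨⟨⟨h, c⟩, rfl⟩, x, hx, hux⟩ := hs
  dsimp only
  rw [← P.lev_gw g, P.lev_orb, ← mul_smul, P.lev_mul]
  refine P.mem_through _ _ ?_
  rw [P.D_orb hx] at hux
  rw [← P.lev_mul, mul_smul, ← hg]
  simpa using (P.mem_D_mk' g 1 (P.lev h c • ω) u).mpr hux

theorem cls_le_through [FiniteDimensional F V] (ω : Ω) {u : P.W} (hu : u ∈ P.D ω) (hu0 : u ≠ 0) :
    cls (P.A ω) ≤ (P.through ω u).ncard ∧
    ∀ (g : P.Gw) (c : Fˣ), u ∈ P.D (P.lev g c • ω) → scl (c : F) (P.A ω) = (P.A ω : Set F) →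
      P.lev g c • ω ∉ P.orb ω → 2 * cls (P.A ω) ≤ (P.through ω u).ncard := by
  classical
  have hk : ∀ c : Fˣ, ∃ g : P.Gw, P.act g u = (c : F) • u := fun c =>
    P.trans_W u _ hu0 (smul_ne_zero c.ne_zero hu0)
  choose k hk using hk
  have hkD : ∀ (c : Fˣ) (x : Ω), u ∈ P.D x → u ∈ P.D (P.lev (k c) c • x) := fun c x hx => by
    have := (P.mem_D_mk' (k c) c x u).mpr hx
    rwa [hk, inv_smul_smul₀ c.ne_zero] at this
  let key : Set Ω → Set F := fun s => {a | ∃ x ∈ s, a ∈ P.A x}
  have hkey : ∀ x, key (P.orb x) = (P.A x : Set F) := fun x => by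
    ext a
    exact ⟨fun ⟨y, hy, ha⟩ => P.A_orb hy ▸ ha, fun ha => ⟨x, P.orb_self x, ha⟩⟩
  set R := Set.range fun c : Fˣ => Frame.scl (c : F) (P.A ω)
  have hR : ∀ r : R, ∃ c : Fˣ, (P.A (P.lev (k c) c • ω) : Set F) = r.1 := fun r => by
    obtain ⟨_, c, rfl⟩ := r
    exact ⟨c, P.A_mk (k c) c ω⟩
  choose cr hcr using hR
  constructor
  · rw [cls, ← Nat.card_coe_set_eq, ← Nat.card_coe_set_eq]
    refine Nat.card_le_card_of_injective
      (fun r => (⟨P.orb (P.lev (k (cr r)) (cr r) • ω), P.mem_through _ _ (hkD _ _ hu)⟩ : P.through ω u))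
      fun r r' h => Subtype.ext ?_
    have := congrArg key (Subtype.ext_iff.mp h)
    rwa [hkey, hkey, hcr, hcr] at this
  · intro g c hg hA hne
    have hA' : (P.A (P.lev g c • ω) : Set F) = P.A ω := by rw [P.A_mk]; exact hA
    let f : R × Bool → P.through ω u := fun rb =>
      if rb.2 then ⟨P.orb (P.lev (k (cr rb.1)) (cr rb.1) • ω), P.mem_through _ _ (hkD _ _ hu)⟩
      else ⟨P.orb (P.lev (k (cr rb.1) * g) (cr rb.1 * c) • ω), P.mem_through _ _ (by
        rw [← P.lev_mul, mul_smul]; exact hkD _ _ hg)⟩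
    have hf : ∀ rb, key (f rb).1 = rb.1.1 := by
      rintro ⟨r, b⟩
      cases b
      · simp only [f, Bool.false_eq_true, if_false]
        rw [hkey, ← P.lev_mul, mul_smul, P.A_mk, ← hcr r, P.A_mk]
        rw [show (P.A (P.lev g c • ω)) = P.A ω from SetLike.coe_injective hA']
      · simp only [f, if_true]
        rw [hkey, hcr]
    have := Nat.card_le_card_of_injective f fun rb rb' h => by
      have h1 : rb.1 = rb'.1 := Subtype.ext (by rw [← hf rb, ← hf rb', h])
      obtain ⟨r, b⟩ := rb
      obtain ⟨r', b'⟩ := rb'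
      obtain rfl : r = r' := h1
      rcases b with _ | _ <;> rcases b' with _ | _ <;> try rfl
      all_goals
        exfalso
        simp only [f, Bool.false_eq_true, if_false, if_true, Subtype.mk.injEq] at h
        rw [← P.lev_mul, mul_smul, ← P.lev_orb (k (cr r)), ← P.lev_orb (k (cr r)), (MulAction.injective _).eq_iff] at h
        refine hne ?_
        first
          | (rw [← h]; exact P.orb_self _)
          | (rw [h]; exact P.orb_self _)
    rw [Nat.card_prod, Nat.card_coe_set_eq, Nat.card_coe_set_eq, Nat.card_eq_fintype_card (α := Bool),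
      Fintype.card_bool, mul_comm] at this
    exact this

theorem bound_of_through [FiniteDimensional F V] (ω : Ω) {u : P.W} (hu0 : u ≠ 0) {b : ℕ}
    (hb : b ≤ (P.through ω u).ncard) :
    (Nat.card P.W - 1) * (b * (P.th ω).ncard) ≤
      (P.img ω).ncard * ((Nat.card (P.D ω) - 1) * (P.th ω).ncard) ∧
    (P.img ω).ncard * (Nat.card (P.D ω) * (P.th ω).ncard) ≤ Nat.card Ω := by
  refine ⟨?_, by rw [← P.card_orb]; exact P.img_mul_le ω⟩
  rw [← mul_assoc, ← mul_assoc]
  exact Nat.mul_le_mul_right _ (P.count ω b fun v hv => hb.trans (P.through_transfer ω hu0 hv))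

end Frame

end CfsgLib.KnownSimple.SpMin
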