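import Cfsg.Agent.Lib.KnownSimple.SpMinIndex.Basic

set_option autoImplicit false
set_option linter.unusedSimpArgs false
set_option linter.unusedSectionVars false
set_option linter.deprecated false

/-!
A proper subgroup of a symplectic group containing a root group of transvections has index at least the number
of points.
-/

namespace CfsgLib.KnownSimple.SpMin

open CfsgLib.Sp
open LinearMap (BilinForm)
open scoped Pointwise

variable {F V : Type*} [Field F] [Finite F] [AddCommGroup V] [Module F V] [Finite V] {B : BilinForm F V}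

instance finite_isom : Finite (isom B) :=
  have : Finite (V ≃ₗ[F] V) := Finite.of_injective (fun g => (g : V → V)) DFunLike.coe_injective
  inferInstance

theorem orbit_ncard_le {G X : Type*} [Group G] [Finite G] [MulAction G X] (H : Subgroup G) (x : X) :
    (MulAction.orbit G x).ncard ≤ H.index * (MulAction.orbit H x).ncard := by
  have h1 : (MulAction.stabilizer H x).index = (MulAction.orbit H x).ncard := MulAction.index_stabilizer H x
  have h2 : MulAction.stabilizer H x = (MulAction.stabilizer G x).subgroupOf H := by ext h; exact Iff.rfl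
  rw [← MulAction.index_stabilizer G x, ← h1, h2, ← Subgroup.relIndex]
  refine le_trans ?_ (Nat.mul_comm _ _).le
  rw [← Subgroup.inf_relIndex_right, Subgroup.relIndex_mul_index inf_le_right]
  exact Nat.le_of_dvd (Nat.pos_of_ne_zero Subgroup.index_ne_zero_of_finite) (Subgroup.index_dvd_of_le inf_le_left)

theorem smul_set_eq (g : isom B) (Z : Submodule F V) :
    g • (Z : Set V) = (Z.map (g.1 : V →ₗ[F] V) : Set V) := rfl

/-- double counting of covered points -/
theorem cover_count {α : Type*} (T : Set (Set α)) (hT : T.Finite) (U : Set α) (hU : U.Finite) (a b : ℕ)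
    (h1 : ∀ u ∈ U, a ≤ {s ∈ T | u ∈ s}.ncard) (h2 : ∀ s ∈ T, (s ∩ U).ncard ≤ b) :
    U.ncard * a ≤ T.ncard * b := by
  classical
  rw [Set.ncard_eq_toFinset_card _ hT, Set.ncard_eq_toFinset_card _ hU]
  set r : α → Set α → Prop := fun u s => u ∈ s
  calc hU.toFinset.card * a = ∑ _u ∈ hU.toFinset, a := by rw [Finset.sum_const, smul_eq_mul]
    _ ≤ ∑ u ∈ hU.toFinset, (Finset.bipartiteAbove r hT.toFinset u).card := Finset.sum_le_sum fun u hu => by
        refine (h1 u (hU.mem_toFinset.mp hu)).trans (le_of_eq ?_)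
        rw [← Set.ncard_coe_finset]
        congr 1
        ext s
        simp [Finset.bipartiteAbove, r]
    _ = ∑ s ∈ hT.toFinset, (Finset.bipartiteBelow r hU.toFinset s).card :=
        Finset.sum_card_bipartiteAbove_eq_sum_card_bipartiteBelow r
    _ ≤ ∑ _s ∈ hT.toFinset, b := Finset.sum_le_sum fun s hs => by
        refine le_trans (le_of_eq ?_) (h2 s (hT.mem_toFinset.mp hs))
        rw [← Set.ncard_coe_finset]
        congr 1
        ext u
        simp [Finset.bipartiteBelow, r, and_comm]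
    _ = hT.toFinset.card * b := by rw [Finset.sum_const, smul_eq_mul]

theorem card_submodule (Z : Submodule F V) : Nat.card Z = Nat.card F ^ Module.finrank F Z :=
  Module.natCard_eq_pow_finrank

/-- images of a subspace through its non-zero vectors -/
theorem count_images (hA : B.IsAlt) (hB : B.SeparatingLeft) (Z : Submodule F V) {u : V} (hu : u ∈ Z)
    (hu0 : u ≠ 0) :
    (Nat.card V - 1) * {s ∈ MulAction.orbit (isom B) (Z : Set V) | u ∈ s}.ncard ≤
      (MulAction.orbit (isom B) (Z : Set V)).ncard * (Nat.card F ^ Module.finrank F Z - 1) := by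
  have hU : ({0}ᶜ : Set V).ncard = Nat.card V - 1 := by rw [Set.ncard_compl, Set.ncard_singleton]
  rw [← hU]
  refine cover_count _ (Set.toFinite _) _ (Set.toFinite _) _ _ (fun v hv => ?_) fun s hs => ?_
  · obtain ⟨γ, hγ, hγu⟩ := transitive_ne_zero hA hB u v hu0 hv
    set g : isom B := ⟨γ, transvGroup_le_isom hγ⟩
    refine Set.ncard_le_ncard_of_injOn (fun s => g • s) (fun s hs => ⟨?_, ?_⟩)
      (fun _ _ _ _ h => MulAction.injective g h) (Set.toFinite _)
    · obtain ⟨k, rfl⟩ := hs.1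
      exact ⟨g * k, mul_smul g k _⟩
    · exact ⟨u, hs.2, hγu⟩
  · obtain ⟨g, rfl⟩ := hs
    have h0 : (0 : V) ∈ g • (Z : Set V) := ⟨0, Z.zero_mem, map_zero g.1⟩
    have hcard : (g • (Z : Set V)).ncard = Nat.card F ^ Module.finrank F Z := by
      rw [← Set.image_smul, Set.ncard_image_of_injective _ (MulAction.injective g), ← card_submodule,
        ← Nat.card_coe_set_eq]
      rfl
    rw [← hcard, ← Set.sdiff_eq, Set.ncard_sdiff_singleton_of_mem h0]

variable (B) in
/-- the subspace orthogonal to a set -/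
def perp (Z : Set V) : Submodule F V where
  carrier := {v | ∀ z ∈ Z, B v z = 0}
  zero_mem' := fun z _ => by simp
  add_mem' := fun {a b} ha hb z hz => by simp [ha z hz, hb z hz]
  smul_mem' := fun c a ha z hz => by simp [ha z hz]

theorem perp_eq_orthogonal (hA : B.IsAlt) (Z : Submodule F V) : perp B (Z : Set V) = B.orthogonal Z := by
  ext v
  rw [LinearMap.BilinForm.mem_orthogonal_iff]
  refine forall₂_congr fun z _ => ?_
  show B v z = 0 ↔ B z v = 0
  rw [alt_flip hA v z]
  exact neg_eq_zero.symm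

theorem nondeg (hA : B.IsAlt) (hB : B.SeparatingLeft) : B.Nondegenerate :=
  ⟨hB, fun y hy => hB y fun x => by rw [alt_flip hA x y, hy x, neg_zero]⟩

theorem finrank_perp (hA : B.IsAlt) (hB : B.SeparatingLeft) (Z : Submodule F V) :
    Module.finrank F (perp B (Z : Set V)) = Module.finrank F V - Module.finrank F Z := by
  rw [perp_eq_orthogonal hA]
  exact LinearMap.BilinForm.finrank_orthogonal (nondeg hA hB) Z

variable (hA : B.IsAlt) (hB : B.SeparatingLeft) {m : ℕ} (hdim : Module.finrank F V = 2 * m)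

include hA hB hdim in
theorem card_V_eq : Nat.card V = Nat.card F ^ (2 * m) := by
  rw [← hdim]; exact Module.natCard_eq_pow_finrank

theorem final_arith {O D T c q k M : ℕ} (h1 : (M - 1) * T ≤ O * (k - 1)) (h2 : O ≤ D * c)
    (h3 : c * (k - 1) ≤ (q - 1) * T) (hT : 0 < T) : M ≤ D * (q - 1) + 1 := by
  have h : (M - 1) * T ≤ D * (q - 1) * T := h1.trans (by
    calc O * (k - 1) ≤ D * c * (k - 1) := Nat.mul_le_mul_right _ h2
      _ = D * (c * (k - 1)) := by ring
      _ ≤ D * ((q - 1) * T) := Nat.mul_le_mul_left _ h3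
      _ = D * (q - 1) * T := by ring)
  have := Nat.le_of_mul_le_mul_right h hT
  omega

theorem fixed_orbit_le (H : Subgroup (isom B)) (Z : Submodule F V)
    (hfix : ∀ h ∈ H, ∀ z ∈ Z, (h : isom B).1 z ∈ Z) :
    (MulAction.orbit (isom B) (Z : Set V)).ncard ≤ H.index * 1 := by
  refine (orbit_ncard_le H _).trans (Nat.mul_le_mul_left _ ((Set.ncard_le_one_iff_subsingleton).mpr ?_))
  have : ∀ h : H, h • (Z : Set V) = Z := by
    intro h
    apply le_antisymm
    · rintro _ ⟨z, hz, rfl⟩; exact hfix _ h.2 z hz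
    · intro z hz
      exact ⟨((h : isom B)⁻¹).1 z, hfix _ (H.inv_mem h.2) z hz, apply_inv_self _ z⟩
  rintro _ ⟨a, rfl⟩ _ ⟨b, rfl⟩
  exact (this a).trans (this b).symm

include hA hB hdim in
/-- fixing a non-zero totally isotropic subspace -/
theorem isotropic_bound (hq : 3 ≤ Nat.card F) (hm : 2 ≤ m) (H : Subgroup (isom B)) (R : Submodule F V)
    (hR : ∀ x ∈ R, ∀ y ∈ R, B x y = 0) (hR0 : R ≠ ⊥) (hfix : ∀ h ∈ H, ∀ z ∈ R, (h : isom B).1 z ∈ R) :
    Nat.card V ≤ H.index * (Nat.card F - 1) + 1 := by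
  set q := Nat.card F
  set k := Module.finrank F R
  obtain ⟨u, hu, hu0⟩ := R.ne_bot_iff.mp hR0
  have hk1 : 1 ≤ k := Nat.one_le_iff_ne_zero.mpr fun h => hR0 (Submodule.finrank_eq_zero.mp h)
  have hkm : k ≤ m := by
    have h1 := Submodule.finrank_mono (show R ≤ perp B (R : Set V) from hR)
    rw [finrank_perp hA hB, hdim] at h1
    omega
  set T := {s ∈ MulAction.orbit (isom B) (R : Set V) | u ∈ s}
  have hTpos : 0 < T.ncard :=
    (Set.ncard_pos (Set.toFinite _)).mpr ⟨(R : Set V), MulAction.mem_orbit_self _, hu⟩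
  refine final_arith (count_images hA hB R hu hu0) (fixed_orbit_le H R hfix) ?_ hTpos
  rw [one_mul]
  show q ^ k - 1 ≤ (q - 1) * T.ncard
  rcases eq_or_lt_of_le hk1 with hk | hk
  · rw [← hk, pow_one]; exact Nat.le_mul_of_pos_right _ hTpos
  -- second count: vectors orthogonal to `u`
  set U : Set V := (perp B ({u} : Set V) : Set V) \ (Submodule.span F {u} : Set V)
  have hpu : Module.finrank F (perp B ({u} : Set V)) = 2 * m - 1 := by
    have e : perp B ({u} : Set V) = perp B (Submodule.span F {u} : Set V) := by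
      ext v
      constructor
      · intro h z hz
        obtain ⟨a, rfl⟩ := Submodule.mem_span_singleton.mp hz
        rw [map_smul, h u rfl, smul_zero]
      · intro h z hz
        exact h z (Submodule.subset_span hz)
    rw [e, finrank_perp hA hB, hdim, finrank_span_singleton hu0]
  have hsu : (Submodule.span F {u} : Set V) ⊆ (perp B ({u} : Set V) : Set V) := by
    intro v hv z hz
    obtain ⟨a, rfl⟩ := Submodule.mem_span_singleton.mp hv
    rw [Set.mem_singleton_iff.mp hz, map_smul, LinearMap.smul_apply, hA.self_eq_zero, smul_zero]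
  have hU : U.ncard = q ^ (2 * m - 1) - q := by
    rw [Set.ncard_sdiff hsu (Set.toFinite _), ← Nat.card_coe_set_eq, ← Nat.card_coe_set_eq]
    show Nat.card (perp B ({u} : Set V)) - Nat.card (Submodule.span F {u}) = _
    rw [card_submodule, card_submodule, hpu, finrank_span_singleton hu0, pow_one]
  obtain ⟨r, hr, hru⟩ : ∃ r ∈ R, r ∉ Submodule.span F {u} := by
    by_contra hc
    push Not at hc
    have := Submodule.finrank_mono hc
    rw [finrank_span_singleton hu0] at this
    omega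
  have ind : ∀ {a b : V}, a ≠ 0 → b ∉ Submodule.span F {a} → LinearIndependent F ![a, b] := by
    intro a b ha hb
    rw [LinearIndependent.pair_iff]
    intro s t h
    by_cases ht : t = 0
    · rw [ht, zero_smul, add_zero, smul_eq_zero] at h
      exact ⟨h.resolve_right ha, ht⟩
    · exfalso
      refine hb (Submodule.mem_span_singleton.mpr ⟨-(t⁻¹ * s), ?_⟩)
      have e := congrArg (fun w => t⁻¹ • w) h
      simp only [smul_add, smul_smul, inv_mul_cancel₀ ht, one_smul, smul_zero] at e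
      rw [neg_smul]
      exact neg_eq_of_add_eq_zero_right e
  -- images containing `u` and a given orthogonal vector
  have himg : ∀ y ∈ U, ∃ s ∈ T, y ∈ s := by
    rintro y ⟨hy, hyu⟩
    obtain ⟨γ, hγ, hγx⟩ := witt_family hA hB ![u, r] ![u, y] (ind hu0 hru) (ind hu0 hyu) (fun i j => by
      fin_cases i <;> fin_cases j <;>
        simp [hA.self_eq_zero, hR u hu r hr, hR r hr u hu, hy u rfl,
          show B u y = 0 by rw [alt_flip hA y u, hy u rfl, neg_zero]])
    set g : isom B := ⟨γ, transvGroup_le_isom hγ⟩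
    exact ⟨g • (R : Set V), ⟨⟨g, rfl⟩, ⟨u, hu, hγx 0⟩⟩, ⟨r, hr, hγx 1⟩⟩
  have hb : ∀ s ∈ T, (s ∩ U).ncard ≤ q ^ k - q := by
    rintro s ⟨⟨g, rfl⟩, hus⟩
    obtain ⟨v, hv, hvu⟩ := hus
    have hsub : (g • (R : Set V)) ∩ U ⊆ (g • (R : Set V)) \ (Submodule.span F {u} : Set V) :=
      fun x hx => ⟨hx.1, hx.2.2⟩
    refine (Set.ncard_le_ncard hsub (Set.toFinite _)).trans (le_of_eq ?_)
    rw [Set.ncard_sdiff ?_ (Set.toFinite _), ← Set.image_smul,
      Set.ncard_image_of_injective _ (MulAction.injective g), ← Nat.card_coe_set_eq, ← Nat.card_coe_set_eq]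
    · show Nat.card R - Nat.card (Submodule.span F {u}) = _
      rw [card_submodule, card_submodule, finrank_span_singleton hu0, pow_one]
    · intro x hx
      obtain ⟨a, rfl⟩ := Submodule.mem_span_singleton.mp hx
      exact ⟨a • v, R.smul_mem a hv, by show g.1 (a • v) = a • u; rw [map_smul]; exact congrArg (a • ·) hvu⟩
  have qk : q ≤ q ^ k := Nat.le_self_pow (by omega) q
  have hQ : 0 < q ^ k - q := by
    have := Nat.pow_lt_pow_right (show 1 < q by omega) hk
    rw [pow_one] at this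
    omega
  have qm : q ≤ q ^ (2 * m - 1) := Nat.le_self_pow (by omega) q
  refine Nat.le_of_mul_le_mul_right ?_ hQ
  rcases lt_or_ge k m with hlt | hge
  · have h := cover_count T (Set.toFinite _) U (Set.toFinite _) 1 (q ^ k - q)
      (fun y hy => (Set.ncard_pos (Set.toFinite _)).mpr (by obtain ⟨s, hs, hys⟩ := himg y hy; exact ⟨s, hs, hys⟩)) hb
    rw [hU, mul_one] at h
    rw [mul_assoc]
    refine le_trans ?_ (Nat.mul_le_mul_left _ h)
    have h' : q ^ k * q ^ k * q ≤ q ^ (2 * m - 1) := by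
      rw [← pow_add, ← pow_succ]
      exact Nat.pow_le_pow_right (by omega) (by omega)
    generalize q ^ k = A at *
    generalize q ^ (2 * m - 1) = Bm at *
    obtain ⟨a, rfl⟩ := Nat.exists_eq_add_of_le qk
    obtain ⟨b, rfl⟩ := Nat.exists_eq_add_of_le qm
    obtain ⟨s, hs⟩ : ∃ s, q = s + 1 := ⟨q - 1, by omega⟩
    simp only [Nat.add_sub_cancel_left]
    rw [hs] at h' ⊢
    simp only [Nat.add_sub_cancel, show s + 1 + a - 1 = s + a by omega]
    nlinarith
  obtain rfl : k = m := le_antisymm hkm hge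
  rcases eq_or_lt_of_le hm with hk2 | hk3
  · have h := cover_count T (Set.toFinite _) U (Set.toFinite _) 1 (q ^ k - q)
      (fun y hy => (Set.ncard_pos (Set.toFinite _)).mpr (by obtain ⟨s, hs, hys⟩ := himg y hy; exact ⟨s, hs, hys⟩)) hb
    rw [hU, mul_one] at h
    rw [mul_assoc]
    refine le_trans ?_ (Nat.mul_le_mul_left _ h)
    rw [← hk2]
    obtain ⟨s, hs⟩ : ∃ s, q = s + 1 := ⟨q - 1, by omega⟩
    rw [hs]
    simp only [show 2 * 2 - 1 = 3 from rfl, Nat.add_sub_cancel]
    rw [show (s + 1) ^ 3 = (s + 1) + (s ^ 3 + 3 * s ^ 2 + 2 * s) by ring,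
      show (s + 1) ^ 2 = (s + 1) + (s ^ 2 + s) by ring]
    simp only [Nat.add_sub_cancel_left, show s + 1 + (s ^ 2 + s) - 1 = s + (s ^ 2 + s) by omega]
    nlinarith
  -- two images in the Lagrangian case
  have htwo : ∀ y ∈ U, 2 ≤ {s ∈ T | y ∈ s}.ncard := by
    intro y hy
    obtain ⟨s, hs, hys⟩ := himg y hy
    obtain ⟨⟨g, rfl⟩, hus⟩ := hs
    set Z := R.map (g.1 : V →ₗ[F] V)
    have hZ : ∀ a ∈ Z, ∀ b ∈ Z, B a b = 0 := by
      rintro _ ⟨a, ha, rfl⟩ _ ⟨b, hb, rfl⟩
      exact (g.2 a b).trans (hR a ha b hb)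
    have hZk : Module.finrank F Z = k := LinearEquiv.finrank_map_eq g.1 R
    set P := Submodule.span F ({u, y} : Set V)
    have hP : P ≤ Z := Submodule.span_le.mpr (by
      rintro x (rfl | rfl)
      · exact hus
      · exact hys)
    have hP2 : Module.finrank F P = 2 := by
      have hi := ind hu0 hy.2
      have := finrank_span_eq_card hi
      rw [Matrix.range_cons, Matrix.range_cons, Matrix.range_empty, Set.union_empty, Set.singleton_union] at this
      simpa using this
    obtain ⟨z, hz, hzP⟩ : ∃ z ∈ Z, z ∉ P := by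
      by_contra hc
      push Not at hc
      have := Submodule.finrank_mono hc
      omega
    obtain ⟨z', hz', hz'Z⟩ : ∃ z' ∈ perp B (P : Set V), z' ∉ Z := by
      by_contra hc
      push Not at hc
      have := Submodule.finrank_mono hc
      rw [finrank_perp hA hB, hdim] at this
      omega
    have ind3 : ∀ w, w ∉ P → LinearIndependent F ![u, y, w] := by
      intro w hw
      rw [Fintype.linearIndependent_iff]
      intro f hf
      simp only [Fin.sum_univ_three, Matrix.cons_val_zero, Matrix.cons_val_one, Matrix.cons_val] at hf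
      have h2 : f 2 = 0 := by
        by_contra h2
        refine hw ?_
        have e : w = (f 2)⁻¹ • (-(f 0 • u + f 1 • y)) := by
          rw [← eq_neg_of_add_eq_zero_right hf, inv_smul_smul₀ h2]
        rw [e]
        exact P.smul_mem _ (P.neg_mem (P.add_mem (P.smul_mem _ (Submodule.subset_span (by simp)))
          (P.smul_mem _ (Submodule.subset_span (by simp)))))
      rw [h2, zero_smul, add_zero] at hf
      obtain ⟨h0, h1⟩ := LinearIndependent.pair_iff.mp (ind hu0 hy.2) _ _ hf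
      intro i; fin_cases i <;> assumption
    have e1 : B u y = 0 := hZ u hus y hys
    have e1' : B y u = 0 := hZ y hys u hus
    have e2 : B z' u = 0 := hz' u (Submodule.subset_span (by simp))
    have e3 : B z' y = 0 := hz' y (Submodule.subset_span (by simp))
    have e2' : B u z' = 0 := by rw [alt_flip hA z' u, e2, neg_zero]
    have e3' : B y z' = 0 := by rw [alt_flip hA z' y, e3, neg_zero]
    obtain ⟨γ, hγ, hγx⟩ := witt_family hA hB ![u, y, z] ![u, y, z'] (ind3 z hzP)
      (ind3 z' fun h => hz'Z (hP h)) (fun i j => by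
      fin_cases i <;> fin_cases j <;>
        simp [hA.self_eq_zero, e1, e1', e2, e3, e2', e3', hZ u hus z hz, hZ z hz u hus, hZ y hys z hz,
          hZ z hz y hys])
    set g' : isom B := ⟨γ, transvGroup_le_isom hγ⟩
    have hne : g' • g • (R : Set V) ≠ g • (R : Set V) := fun h =>
      hz'Z (show z' ∈ g • (R : Set V) from h ▸ ⟨z, hz, hγx 2⟩)
    rw [← Set.ncard_pair hne]
    refine Set.ncard_le_ncard ?_ (Set.toFinite _)
    rintro s (rfl | rfl)
    · exact ⟨⟨⟨g' * g, mul_smul _ _ _⟩, ⟨u, hus, hγx 0⟩⟩, ⟨y, hys, hγx 1⟩⟩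
    · exact ⟨⟨⟨g, rfl⟩, hus⟩, hys⟩
  have h := cover_count T (Set.toFinite _) U (Set.toFinite _) 2 (q ^ k - q) htwo hb
  rw [hU] at h
  rw [mul_assoc]
  refine le_trans ?_ (Nat.mul_le_mul_left _ h)
  have e : q ^ (2 * k - 1) * q = q ^ k * q ^ k := by rw [← pow_succ, ← pow_add]; congr 1; omega
  have hk3' : q * q * q ≤ q ^ k := by
    rw [show q * q * q = q ^ 3 by ring]; exact Nat.pow_le_pow_right (by omega) hk3
  generalize q ^ k = A at *
  generalize q ^ (2 * k - 1) = Bm at *
  obtain ⟨a, rfl⟩ := Nat.exists_eq_add_of_le qk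
  obtain ⟨b, rfl⟩ := Nat.exists_eq_add_of_le qm
  obtain ⟨s, hs⟩ : ∃ s, q = s + 1 := ⟨q - 1, by omega⟩
  simp only [Nat.add_sub_cancel_left]
  rw [hs] at e hk3' ⊢
  simp only [Nat.add_sub_cancel, show s + 1 + a - 1 = s + a by omega]
  nlinarith

include hA hB hdim in
theorem nondeg_images (Z : Submodule F V) (hZ : ∀ z ∈ Z, (∀ w ∈ Z, B z w = 0) → z = 0) {u : V} (hu : u ∈ Z)
    (hu0 : u ≠ 0) :
    Nat.card F ^ (2 * m - Module.finrank F Z) ≤
      {s ∈ MulAction.orbit (isom B) (Z : Set V) | u ∈ s}.ncard := by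
  obtain ⟨y, hy, hyu⟩ : ∃ y ∈ Z, B u y ≠ 0 := by
    by_contra hc
    push Not at hc
    exact hu0 (hZ u hu hc)
  rw [← hdim, ← finrank_perp hA hB Z, ← card_submodule]
  have hb : ∀ z : perp B (Z : Set V), B u (z : V) = 0 := fun z => by
    rw [alt_flip hA (z : V) u, z.2 u hu, neg_zero]
  refine Nat.card_le_card_of_injective (fun z =>
    (⟨eg hA u (z : V) • (Z : Set V), ⟨⟨_, rfl⟩, ⟨u, hu, by
      show (eg hA u (z : V)).1 u = u
      rw [eg_apply hA (hb z), hA.self_eq_zero, hb z]; simp⟩⟩⟩ :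
      {s ∈ MulAction.orbit (isom B) (Z : Set V) | u ∈ s})) fun z z' h => ?_
  have h' : eg hA u (z : V) • (Z : Set V) = eg hA u (z' : V) • (Z : Set V) := congrArg Subtype.val h
  obtain ⟨w, hw, hwy⟩ : (eg hA u (z' : V)).1 y ∈ eg hA u (z : V) • (Z : Set V) := h'.symm ▸ ⟨y, hy, rfl⟩
  change (eg hA u (z : V)).1 w = (eg hA u (z' : V)).1 y at hwy
  rw [eg_apply hA (hb z), eg_apply hA (hb z')] at hwy
  have hyz : B y (z' : V) = 0 := by rw [alt_flip hA (z' : V) y, z'.2 y hy, neg_zero]
  have hwz : B w (z : V) = 0 := by rw [alt_flip hA (z : V) w, z.2 w hw, neg_zero]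
  simp only [hyz, hwz, zero_smul, add_zero] at hwy
  have hmem : B w u • (z : V) - B y u • (z' : V) = y - w := by
    rw [eq_sub_iff_add_eq', ← add_sub_assoc, hwy, add_sub_cancel_right]
  have h0 : y - w = 0 := hZ _ (Z.sub_mem hy hw) fun x hx => by
    rw [← hmem]
    simp [z.2 x hx, z'.2 x hx]
  obtain rfl := sub_eq_zero.mp h0
  have hyu' : B y u ≠ 0 := by rw [alt_flip hA u y]; exact neg_ne_zero.mpr hyu
  rw [sub_self, ← smul_sub, smul_eq_zero] at hmem
  exact Subtype.ext (sub_eq_zero.mp (hmem.resolve_left hyu'))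

omit [Finite F] in
theorem sum_orth (hA : B.IsAlt) (r : ℕ) (s : Finset (Submodule F V))
    (hd : ∀ Z ∈ s, Module.finrank F Z = r ∧ ∀ z ∈ Z, (∀ w ∈ Z, B z w = 0) → z = 0)
    (ho : ∀ Z ∈ s, ∀ Z' ∈ s, Z ≠ Z' → ∀ z ∈ Z, ∀ z' ∈ Z', B z z' = 0) :
    Module.finrank F (s.sup id : Submodule F V) = s.card * r := by
  classical
  induction s using Finset.induction with
  | empty => simp
  | insert Z s hZs ih =>
    rw [Finset.sup_insert, id, Finset.card_insert_of_notMem hZs]
    have h1 := ih (fun Z' h => hd Z' (Finset.mem_insert_of_mem h))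
      (fun Z' h Z'' h' => ho Z' (Finset.mem_insert_of_mem h) Z'' (Finset.mem_insert_of_mem h'))
    have hdis : Z ⊓ s.sup id = ⊥ := by
      rw [eq_bot_iff]
      rintro z ⟨hz, hz'⟩
      refine (hd Z (Finset.mem_insert_self _ _)).2 z hz fun w hw => ?_
      have hle : s.sup id ≤ perp B (Z : Set V) := Finset.sup_le fun Z' hZ' x hx v hv =>
        ho Z' (Finset.mem_insert_of_mem hZ') Z (Finset.mem_insert_self _ _) (fun e => hZs (e ▸ hZ')) x hx v hv
      exact hle hz' w hw
    have := Submodule.finrank_sup_add_finrank_inf_eq Z (s.sup id)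
    rw [hdis, finrank_bot, add_zero, h1, (hd Z (Finset.mem_insert_self _ _)).1] at this
    rw [this]; ring

theorem nd_arith {q r c t : ℕ} (hq : 3 ≤ q) (hc : 1 ≤ c) (hcr : c * r ≤ r + t) (hrt : r ≤ t) :
    c * (q ^ r - 1) ≤ (q - 1) * q ^ t := by
  rcases eq_or_lt_of_le hc with h | h
  · rw [← h, one_mul]
    exact (Nat.sub_le _ _).trans ((Nat.pow_le_pow_right (by omega) hrt).trans (Nat.le_mul_of_pos_left _ (by omega)))
  obtain ⟨d, rfl⟩ : ∃ d, c = d + 2 := ⟨c - 2, by omega⟩
  rcases Nat.eq_zero_or_pos r with rfl | hr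
  · simp
  have e1 : q ^ r * (d + 1) ≤ q ^ t := by
    refine le_trans ?_ (Nat.pow_le_pow_right (show 0 < q by omega) (show r + d ≤ t by nlinarith))
    rw [pow_add]
    exact Nat.mul_le_mul_left _ (Nat.lt_pow_self (by omega))
  calc (d + 2) * (q ^ r - 1) ≤ (d + 2) * q ^ r := Nat.mul_le_mul_left _ (Nat.sub_le _ _)
    _ ≤ 2 * (q ^ r * (d + 1)) := by
        rw [show 2 * (q ^ r * (d + 1)) = 2 * (d + 1) * q ^ r by ring]
        exact Nat.mul_le_mul_right _ (by omega)
    _ ≤ (q - 1) * q ^ t := Nat.mul_le_mul (by omega) e1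

include hA hB hdim in
theorem endgame (hq : 3 ≤ Nat.card F) (hm : 2 ≤ m) (H : Subgroup (isom B)) (hH : H ≠ ⊤) {v₀ : V} (hv₀ : v₀ ≠ 0)
    (hroot : ∀ c : F, tg hA v₀ c ∈ H) : Nat.card V ≤ H.index * (Nat.card F - 1) + 1 := by
  classical
  set q := Nat.card F
  let S : Set V := {v | ∀ c : F, tg hA v c ∈ H}
  have hSsmul : ∀ (a : F) (v : V), v ∈ S → a • v ∈ S := fun a v hv c => by rw [tg_smul]; exact hv _
  have hSH : ∀ h ∈ H, ∀ v ∈ S, (h : isom B).1 v ∈ S := fun h hh v hv c => by
    rw [← tg_conj hA h v c]; exact H.mul_mem (H.mul_mem hh (hv c)) (H.inv_mem hh)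
  have hline : ∀ s ∈ S, ∀ s' ∈ S, B s s' ≠ 0 → ∀ a b : F, a • s + b • s' ∈ S := by
    intro s hs s' hs' hne a b
    by_cases ha : a = 0
    · rw [ha, zero_smul, zero_add]; exact hSsmul b s' hs'
    have := hSH _ (hs' (b / (a * B s s'))) (a • s) (hSsmul a s hs)
    rwa [tg_apply, map_smul, LinearMap.smul_apply, smul_eq_mul, div_mul_cancel₀ _ (mul_ne_zero ha hne)] at this
  set X := Submodule.span F S
  have hXH : ∀ h ∈ H, ∀ z ∈ X, (h : isom B).1 z ∈ X := fun h hh =>
    show X ≤ X.comap (h.1 : V →ₗ[F] V) from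
      Submodule.span_le.mpr fun v hv => Submodule.subset_span (hSH h hh v hv)
  by_cases hR : X ⊓ perp B (X : Set V) = ⊥
  swap
  · refine isotropic_bound hA hB hdim hq hm H (X ⊓ perp B (X : Set V)) (fun x hx y hy => (Submodule.mem_inf.mp hx).2 y (Submodule.mem_inf.mp hy).1) hR fun h hh z hz => ?_
    refine ⟨hXH h hh z hz.1, fun w hw => ?_⟩
    have e := (h : isom B).2 z (((h : isom B)⁻¹).1 w)
    rw [apply_inv_self, hz.2 _ (hXH _ (H.inv_mem hh) w hw)] at e
    exact e
  let Good : Submodule F V → Prop := fun Y => (∀ y ∈ Y, y ∈ S) ∧ ∀ z ∈ Y, (∀ w ∈ Y, B z w = 0) → z = 0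
  have hex : ∀ z ∈ X, z ≠ 0 → ∃ s ∈ S, B z s ≠ 0 := by
    intro z hz hz0
    by_contra hc
    push Not at hc
    refine hz0 ((Submodule.eq_bot_iff _).mp hR z ⟨hz, ?_⟩)
    intro w hw
    exact LinearMap.mem_ker.mp (show w ∈ LinearMap.ker (B z) from
      (Submodule.span_le.mpr fun s hs => LinearMap.mem_ker.mpr (hc s hs)) hw)
  obtain ⟨Y, hY, hmax⟩ : ∃ Y, Good Y ∧ ∀ Y', Good Y' → Module.finrank F Y' ≤ Module.finrank F Y := by
    have : Finite (Submodule F V) := Finite.of_injective _ SetLike.coe_injective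
    have := Fintype.ofFinite (Submodule F V)
    have hne : (Finset.univ.filter Good).Nonempty := ⟨⊥, Finset.mem_filter.mpr ⟨Finset.mem_univ _,
      fun y hy c => by rw [(Submodule.mem_bot F).mp hy, show tg hA (0 : V) c = 1 from gext fun x => by simp [one_apply']]; exact H.one_mem,
      fun z hz _ => (Submodule.mem_bot F).mp hz⟩⟩
    obtain ⟨Y, hY, hmax⟩ := Finset.exists_max_image _ (fun Y : Submodule F V => Module.finrank F Y) hne
    exact ⟨Y, (Finset.mem_filter.mp hY).2,
      fun Y' h => hmax Y' (Finset.mem_filter.mpr ⟨Finset.mem_univ _, h⟩)⟩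
  have hY0 : Module.finrank F Y ≠ 0 := by
    obtain ⟨s, hs, hne⟩ := hex v₀ (Submodule.subset_span hroot) hv₀
    have hG : Good (Submodule.span F {v₀, s}) := by
      refine ⟨fun y hy => ?_, fun z hz hperp => ?_⟩
      · obtain ⟨a, b, rfl⟩ := Submodule.mem_span_pair.mp hy
        exact hline v₀ hroot s hs hne a b
      · obtain ⟨a, b, rfl⟩ := Submodule.mem_span_pair.mp hz
        have h1 := hperp v₀ (Submodule.subset_span (by simp))
        have h2 := hperp s (Submodule.subset_span (by simp))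
        simp [hA.self_eq_zero, hne, alt_flip hA v₀ s] at h1 h2
        simp [h1, h2]
    have h1 := hmax _ hG
    have h2 : 0 < Module.finrank F (Submodule.span F ({v₀, s} : Set V)) := by
      rw [Nat.pos_iff_ne_zero, Ne, Submodule.finrank_eq_zero]
      exact fun h => hv₀ ((Submodule.mem_bot F).mp (h ▸ Submodule.subset_span (by simp : v₀ ∈ ({v₀, s} : Set V))))
    omega
  have hsup : Y ⊔ perp B (Y : Set V) = ⊤ := by
    apply Submodule.eq_top_of_finrank_eq
    have h1 := Submodule.finrank_sup_add_finrank_inf_eq Y (perp B (Y : Set V))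
    have h0 : Y ⊓ perp B (Y : Set V) = ⊥ := (Submodule.eq_bot_iff _).mpr fun z hz => hY.2 z hz.1 hz.2
    rw [h0, finrank_bot, add_zero, finrank_perp hA hB] at h1
    have := Submodule.finrank_le Y
    omega
  -- transitivity inside `Y`
  have htrans : ∀ y ∈ Y, ∀ y' ∈ Y, y ≠ 0 → y' ≠ 0 →
      ∃ h ∈ H, h.1 y = y' ∧ ∀ z ∈ perp B (Y : Set V), h.1 z = z := by
    have step : ∀ y ∈ Y, ∀ y' ∈ Y, B y y' ≠ 0 →
        ∃ h ∈ H, h.1 y = y' ∧ ∀ z ∈ perp B (Y : Set V), h.1 z = z := by
      intro y hy y' hy' hne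
      refine ⟨tg hA (y' - y) (B y y')⁻¹, hY.1 _ (Y.sub_mem hy' hy) _,
        tvec_move (hA := hA) y y' hne, fun z hz => ?_⟩
      rw [tg_apply, hz _ (Y.sub_mem hy' hy), mul_zero, zero_smul, add_zero]
    intro y hy y' hy' h0 h0'
    obtain ⟨a, ha, hya⟩ : ∃ a ∈ Y, B y a ≠ 0 := by
      by_contra hc; push Not at hc; exact h0 (hY.2 y hy hc)
    obtain ⟨b, hb, hyb⟩ : ∃ b ∈ Y, B y' b ≠ 0 := by
      by_contra hc; push Not at hc; exact h0' (hY.2 y' hy' hc)
    obtain ⟨w, hw, h1, h2⟩ : ∃ w ∈ Y, B y w ≠ 0 ∧ B y' w ≠ 0 := by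
      by_cases e1 : B y' a = 0
      · by_cases e2 : B y b = 0
        · exact ⟨a + b, Y.add_mem ha hb, by simp [hya, e2], by simp [e1, hyb]⟩
        · exact ⟨b, hb, e2, hyb⟩
      · exact ⟨a, ha, hya, e1⟩
    obtain ⟨h, hh, hhy, hhz⟩ := step y hy w hw h1
    obtain ⟨k, hk, hky, hkz⟩ := step w hw y' hy' (by rw [alt_flip hA y' w]; exact neg_ne_zero.mpr h2)
    exact ⟨k * h, H.mul_mem hk hh, by rw [mul_apply', hhy, hky],
      fun z hz => by rw [mul_apply', hhz z hz, hkz z hz]⟩
  have hYX : ∀ y ∈ Y, y ∈ X := fun y hy => Submodule.subset_span (hY.1 y hy)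
  have hdich : ∀ s ∈ S, s ∈ Y ∨ s ∈ perp B (Y : Set V) := by
    intro s hs
    obtain ⟨y, hy, z, hz, rfl⟩ := Submodule.mem_sup.mp (hsup ▸ Submodule.mem_top : s ∈ Y ⊔ perp B (Y : Set V))
    by_contra hc
    push Not at hc
    have hy0 : y ≠ 0 := fun h => hc.2 (by rw [h, zero_add]; exact hz)
    have hz0 : z ≠ 0 := fun h => hc.1 (by rw [h, add_zero]; exact hy)
    have hzero : ∀ w ∈ perp B (Y : Set V), ∀ a ∈ Y, B w a = 0 ∧ B a w = 0 := fun w hw a ha =>
      ⟨hw a ha, by rw [alt_flip hA w a, hw a ha, neg_zero]⟩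
    have hplus : ∀ y' ∈ Y, y' ≠ 0 → ∀ w ∈ perp B (Y : Set V), ∀ a ∈ Y, a ≠ 0 → a + w ∈ S → y' + w ∈ S := by
      intro y' hy' h0' w hw a ha ha0 haw
      obtain ⟨h, hh, e, efix⟩ := htrans a ha y' hy' ha0 h0'
      have := hSH h hh _ haw
      rwa [map_add, e, efix w hw] at this
    have hzX : z ∈ X := by
      have := X.sub_mem (Submodule.subset_span hs) (hYX y hy)
      rwa [add_sub_cancel_left] at this
    obtain ⟨s₂, hs₂, hzs⟩ := hex z hzX hz0
    obtain ⟨y₂, hy₂, z₂, hz₂, rfl⟩ :=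
      Submodule.mem_sup.mp (hsup ▸ Submodule.mem_top : s₂ ∈ Y ⊔ perp B (Y : Set V))
    have hzz : B z z₂ ≠ 0 := by simpa [(hzero z hz y₂ hy₂).1] using hzs
    obtain ⟨v, hv, hvS, hzv⟩ : ∃ v ∈ perp B (Y : Set V), v ∈ S ∧ B z v ≠ 0 := by
      by_cases h2 : y₂ = 0
      · exact ⟨z₂, hz₂, by simpa [h2] using hs₂, hzz⟩
      · have h1 := hplus y₂ hy₂ h2 z hz y hy hy0 hs
        have h3 := hline _ h1 _ hs₂ (by
          simp [hA.self_eq_zero, (hzero z₂ hz₂ y₂ hy₂).2, (hzero z hz y₂ hy₂).1, hzz]) 1 (-1)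
        refine ⟨z - z₂, (perp B (Y : Set V)).sub_mem hz hz₂, ?_, by simpa [hA.self_eq_zero] using hzz⟩
        convert h3 using 1
        module
    have hvz : B v z ≠ 0 := by rw [alt_flip hA z v]; exact neg_ne_zero.mpr hzv
    have claim1 : ∀ y' ∈ Y, y' ≠ 0 → ∀ a b : F, a ≠ 0 → y' + a • z + b • v ∈ S := by
      intro y' hy' h0' a b ha
      have h1 : y' + a • z ∈ S := by
        have h2 := hplus (a⁻¹ • y') (Y.smul_mem _ hy') (smul_ne_zero (inv_ne_zero ha) h0') z hz y hy hy0 hs
        have h3 := hSsmul a _ h2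
        rwa [smul_add, smul_inv_smul₀ ha] at h3
      have h4 := hline _ h1 v hvS (by simp [(hzero v hv y' hy').2, ha, hzv]) 1 b
      rwa [one_smul] at h4
    have claim2 : ∀ a b : F, a ≠ 0 → a • z + b • v ∈ S := by
      intro a b ha
      obtain ⟨a₂, ha2, ha2'⟩ : ∃ a₂ : F, a₂ ≠ 0 ∧ a₂ ≠ -a := by
        by_contra hc
        push Not at hc
        have hsub : (Set.univ : Set F) ⊆ {0, -a} := fun x _ => by
          by_cases h : x = 0
          · exact Or.inl h
          · exact Or.inr (hc x h)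
        have := Set.ncard_le_ncard hsub (Set.toFinite _)
        rw [Set.ncard_univ, Set.ncard_pair (neg_ne_zero.mpr ha).symm] at this
        omega
      set b₂ := (a₂ * b + 1) / a
      have hne : a + a₂ ≠ 0 := fun h => ha2' (eq_neg_of_add_eq_zero_right h)
      have h := hline _ (claim1 y hy hy0 (a + a₂) (b + b₂) hne) _ (claim1 y hy hy0 a₂ b₂ ha2) (by
        simp only [map_add, map_smul, LinearMap.add_apply, LinearMap.smul_apply, smul_eq_mul, hA.self_eq_zero,
          (hzero z hz y hy).1, (hzero z hz y hy).2, (hzero v hv y hy).1, (hzero v hv y hy).2, alt_flip hA z v]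
        have e : a * b₂ - a₂ * b = 1 := by
          simp only [b₂]; field_simp; ring
        intro h
        exact hzv (by linear_combination h - B z v * e)) 1 (-1)
      convert h using 1
      module
    have claim3 : ∀ y' ∈ Y, ∀ a b : F, y' + a • z + b • v ∈ S := by
      intro y' hy' a b
      by_cases h0' : y' = 0
      · rw [h0', zero_add]
        by_cases ha : a = 0
        · rw [ha, zero_smul, zero_add]; exact hSsmul b v hvS
        · exact claim2 a b ha
      by_cases ha : a = 0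
      · rw [ha, zero_smul, add_zero]
        by_cases hb : b = 0
        · rw [hb, zero_smul, add_zero]; exact hY.1 y' hy'
        have h := hline _ (claim1 y' hy' h0' 1 0 one_ne_zero) _ (claim2 (-1) b (neg_ne_zero.mpr one_ne_zero)) (by
          simp [(hzero v hv y' hy').2, (hzero z hz y' hy').2, hA.self_eq_zero, hb, hzv]) 1 1
        convert h using 1
        module
      · exact claim1 y' hy' h0' a b ha
    set P := Submodule.span F ({z, v} : Set V)
    have hG : Good (Y ⊔ P) := by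
      refine ⟨fun w hw => ?_, fun w hw hperp => ?_⟩
      · obtain ⟨y', hy', p, hp, rfl⟩ := Submodule.mem_sup.mp hw
        obtain ⟨a, b, rfl⟩ := Submodule.mem_span_pair.mp hp
        rw [← add_assoc]; exact claim3 y' hy' a b
      · obtain ⟨y', hy', p, hp, rfl⟩ := Submodule.mem_sup.mp hw
        obtain ⟨a, b, rfl⟩ := Submodule.mem_span_pair.mp hp
        have e0 : y' = 0 := hY.2 y' hy' fun c hc => by
          simpa [(hzero z hz c hc).1, (hzero v hv c hc).1] using hperp c (Submodule.mem_sup_left hc)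
        subst e0
        have ha := hperp v (Submodule.mem_sup_right (Submodule.subset_span (by simp)))
        have hb := hperp z (Submodule.mem_sup_right (Submodule.subset_span (by simp)))
        simp [hA.self_eq_zero, hzv, hvz] at ha hb
        simp [ha, hb]
    have hlt : Y < Y ⊔ P := lt_of_le_of_ne le_sup_left fun h => hz0 (hY.2 z
      (h ▸ Submodule.mem_sup_right (Submodule.subset_span (by simp))) fun w hw => hz w hw)
    exact absurd (hmax _ hG) (not_le.mpr (Submodule.finrank_lt_finrank_of_lt hlt))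
  by_cases htop : Y = ⊤
  · refine absurd (eq_top_iff.mpr fun g _ => ?_) hH
    have hle : transvGroup B hA ≤ H.map (isom B).subtype := by
      rw [transvGroup, Subgroup.closure_le]
      rintro _ ⟨v, c, rfl⟩
      exact ⟨tg hA v c, hY.1 v (htop ▸ Submodule.mem_top) c, rfl⟩
    obtain ⟨k, hk, hke⟩ := hle ((isom_eq_transvGroup hA hB).le g.2)
    rwa [← Subtype.ext hke]
  -- images of `Y` under `H`
  have hpre : ∀ h ∈ H, Good (Y.map (h.1 : V →ₗ[F] V)) := by
    intro h hh
    refine ⟨?_, ?_⟩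
    · rintro _ ⟨y, hy, rfl⟩; exact hSH h hh y (hY.1 y hy)
    · rintro _ ⟨y, hy, rfl⟩ hperp
      have : y = 0 := hY.2 y hy fun w hw => by rw [← h.2 y w]; exact hperp _ ⟨w, hw, rfl⟩
      rw [this, map_zero]
  have hsub : ∀ h ∈ H, Y.map (h.1 : V →ₗ[F] V) = Y ∨ Y.map (h.1 : V →ₗ[F] V) ≤ perp B (Y : Set V) := by
    intro h hh
    set Z := Y.map (h.1 : V →ₗ[F] V)
    by_cases hle : Z ≤ perp B (Y : Set V)
    · exact Or.inr hle
    left
    refine Submodule.eq_of_le_of_finrank_eq (fun z hz => ?_) (LinearEquiv.finrank_map_eq h.1 Y)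
    obtain ⟨b, hb, hbn⟩ := SetLike.not_le_iff_exists.mp hle
    have hbY := (hdich b ((hpre h hh).1 b hb)).resolve_right hbn
    rcases hdich z ((hpre h hh).1 z hz) with h1 | h1
    · exact h1
    rcases hdich (z + b) ((hpre h hh).1 _ (Z.add_mem hz hb)) with h2 | h2
    · simpa using Y.sub_mem h2 hbY
    · exact absurd (by simpa using (perp B (Y : Set V)).sub_mem h2 h1) hbn
  set r := Module.finrank F Y
  have hfinite : Finite (Submodule F V) := Finite.of_injective _ SetLike.coe_injective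
  have := Fintype.ofFinite (Submodule F V)
  have := Fintype.ofFinite H
  set 𝒴 : Finset (Submodule F V) := Finset.univ.image fun h : H => Y.map (h.1.1 : V →ₗ[F] V)
  have horb : (MulAction.orbit H (Y : Set V)).ncard ≤ 𝒴.card := by
    rw [← Set.ncard_coe_finset]
    refine (Set.ncard_le_ncard (t := (fun Z : Submodule F V => (Z : Set V)) '' (𝒴 : Set (Submodule F V)))
      ?_ (Set.toFinite _)).trans (Set.ncard_image_le (Set.toFinite _))
    rintro _ ⟨h, rfl⟩
    exact ⟨_, Finset.mem_coe.mpr (Finset.mem_image.mpr ⟨h, Finset.mem_univ _, rfl⟩), rfl⟩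
  have hmul : ∀ (h k : isom B) (Z : Submodule F V),
      Z.map ((h * k).1 : V →ₗ[F] V) = (Z.map (k.1 : V →ₗ[F] V)).map (h.1 : V →ₗ[F] V) := fun h k Z => by
    rw [← Submodule.map_comp]; rfl
  have hcr : 𝒴.card * r ≤ 2 * m := by
    rw [← hdim, ← sum_orth hA r 𝒴 ?_ ?_]
    · exact Submodule.finrank_le _
    · intro Z hZ
      obtain ⟨h, -, rfl⟩ := Finset.mem_image.mp hZ
      exact ⟨LinearEquiv.finrank_map_eq h.1.1 Y, (hpre h.1 h.2).2⟩
    · intro Z hZ Z' hZ' hne
      obtain ⟨h, -, rfl⟩ := Finset.mem_image.mp hZ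
      obtain ⟨k, -, rfl⟩ := Finset.mem_image.mp hZ'
      rintro _ ⟨a, ha, rfl⟩ _ ⟨b, hb, rfl⟩
      rcases hsub ((h.1)⁻¹ * k.1) (H.mul_mem (H.inv_mem h.2) k.2) with e | e
      · exfalso; apply hne
        conv_lhs => rw [← e]
        rw [← hmul, mul_inv_cancel_left]
      · have h1 : B (((h.1)⁻¹ * k.1 : isom B).1 b) a = 0 := e ⟨b, hb, rfl⟩ a ha
        rw [mul_apply'] at h1
        have h2 := h.1.2 ((h.1⁻¹).1 (k.1.1 b)) a
        rw [apply_inv_self, h1] at h2
        show B (h.1.1 a) (k.1.1 b) = 0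
        rw [alt_flip hA (k.1.1 b) (h.1.1 a), h2, neg_zero]
  obtain ⟨u, hu, hu0⟩ := Y.ne_bot_iff.mp fun h => hY0 (by simp [r, h])
  have hrlt : r < 2 * m := hdim ▸ Submodule.finrank_lt htop
  have hc1 : 1 ≤ 𝒴.card :=
    Finset.card_pos.mpr ⟨_, Finset.mem_image.mpr ⟨⟨1, H.one_mem⟩, Finset.mem_univ _, rfl⟩⟩
  rcases le_or_gt r (2 * m - r) with hsmall | hbig
  · refine final_arith (count_images hA hB Y hu hu0) ((orbit_ncard_le H _).trans (Nat.mul_le_mul_left _ horb))
      ((nd_arith hq hc1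
        (by omega) hsmall).trans (Nat.mul_le_mul_left _ (nondeg_images hA hB hdim Y hY.2 hu hu0)))
      ((Set.ncard_pos (Set.toFinite _)).mpr ⟨(Y : Set V), MulAction.mem_orbit_self _, hu⟩)
  -- the complement is small and fixed
  have hfixY : ∀ h ∈ H, Y.map (h.1 : V →ₗ[F] V) = Y := by
    intro h hh
    rcases hsub h hh with e | e
    · exact e
    · exfalso
      have h1 := Submodule.finrank_mono e
      rw [LinearEquiv.finrank_map_eq, finrank_perp hA hB, hdim] at h1
      omega
  set W := perp B (Y : Set V)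
  have hWfix : ∀ h ∈ H, ∀ z ∈ W, (h : isom B).1 z ∈ W := by
    intro h hh z hz y hy
    obtain ⟨y', hy', rfl⟩ := (hfixY h hh).ge hy
    exact (h.2 z y').trans (hz y' hy')
  have hWr : Module.finrank F W = 2 * m - r := by rw [finrank_perp hA hB, hdim]
  have hWnd : ∀ z ∈ W, (∀ w ∈ W, B z w = 0) → z = 0 := fun z hz hperp => hB z fun x => by
    obtain ⟨y, hy, w, hw, rfl⟩ := Submodule.mem_sup.mp (hsup ▸ Submodule.mem_top : x ∈ Y ⊔ W)
    rw [map_add, hz y hy, hperp w hw, add_zero]
  obtain ⟨w, hw, hw0⟩ := W.ne_bot_iff.mp fun h => by rw [h, finrank_bot] at hWr; omega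
  refine final_arith (count_images hA hB W hw hw0) (fixed_orbit_le H W hWfix) ?_
    ((Set.ncard_pos (Set.toFinite _)).mpr ⟨(W : Set V), MulAction.mem_orbit_self _, hw⟩)
  refine le_trans ?_ (Nat.mul_le_mul_left _ (nondeg_images hA hB hdim W hWnd hw hw0))
  exact nd_arith hq le_rfl (by omega) (by omega)

end CfsgLib.KnownSimple.SpMin
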