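import Cfsg.Agent.Lib.KnownSimple.SpMinIndex.Count

set_option autoImplicit false
set_option linter.unusedSimpArgs false
set_option linter.unusedSectionVars false

/-!
In a small permutation representation of a symplectic group some root group of transvections fixes a point.
-/

namespace CfsgLib.KnownSimple.SpMin

open CfsgLib.Sp
open LinearMap (BilinForm)
open scoped Pointwise

theorem big_arith {q w M : ℕ} (hq : 3 ≤ q) (hw : q * q ≤ w) (hM : (w - 1) * (q + 2) ≤ M)
    (hd : M * (q - 1) + 1 < q * q * w) : False := by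
  obtain ⟨s, rfl⟩ : ∃ s, q = s + 1 := ⟨q - 1, by omega⟩
  obtain ⟨r, rfl⟩ : ∃ r, w = r + 1 := ⟨w - 1, by have : 0 < (s + 1) * (s + 1) := by positivity
                                                 omega⟩
  simp only [Nat.add_sub_cancel] at hM hd
  have h1 := Nat.mul_le_mul_right s hM
  have h2 : 1 * ((s + 1) * (s + 1)) ≤ (s - 1) * (r + 1) := Nat.mul_le_mul (by omega) hw
  obtain ⟨s', rfl⟩ : ∃ s', s = s' + 2 := ⟨s - 2, by omega⟩
  simp only [show s' + 2 - 1 = s' + 1 by omega] at h2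
  nlinarith

theorem line_arith {q M X n : ℕ} (hq : 3 ≤ q) (hn : 2 * n ≤ q) (h1 : (q * q - 1) * q ≤ X * (n - 1))
    (h2 : X * n ≤ M) (hd : M * (q - 1) + 1 < q * q * (q * q)) : False := by
  rcases n with _ | d
  · simp at h1
    have : 9 ≤ q * q := by nlinarith
    omega
  obtain ⟨r, hr⟩ : ∃ r, q * q = r + 1 := ⟨q * q - 1, by have : 0 < q * q := by positivity
                                                        omega⟩
  obtain ⟨s, rfl⟩ : ∃ s, q = s + 3 := ⟨q - 3, by omega⟩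
  rw [hr, Nat.add_sub_cancel] at h1
  simp only [Nat.add_sub_cancel, show s + 3 - 1 = s + 2 by omega] at h1 hd
  have h4 : X * (2 * d) ≤ X * (s + 1) := Nat.mul_le_mul_left X (by omega)
  have h5 : (X * d + X) * (s + 1) ≤ M * (s + 1) := Nat.mul_le_mul_right _ (by rw [← Nat.mul_succ]; exact h2)
  have h6 : r * (s + 3) * (s + 1) ≤ X * d * (s + 1) := Nat.mul_le_mul_right _ h1
  have h7 : r * (s + 3) * (s + 3) ≤ M * (s + 1) := by nlinarith
  have h8 := Nat.mul_le_mul_right (s + 2) h7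
  have h9 : (M * (s + 2) + 1) * (s + 1) < (s + 3) * (s + 3) * ((s + 3) * (s + 3)) * (s + 1) :=
    Nat.mul_lt_mul_of_pos_right hd (by omega)
  rw [hr] at h9
  nlinarith

variable {F V : Type*} [Field F] [Finite F] [AddCommGroup V] [Module F V] [Finite V] {B : BilinForm F V}

namespace Frame

variable (P : Frame B) {Ω : Type*} [MulAction (isom B) Ω] [Finite Ω]

variable (B Ω) in
/-- no root group of transvections fixes a point -/
def NoFix : Prop := ∀ (hA : B.IsAlt) (v : V), v ≠ 0 → ∀ ω : Ω, ∃ c : F, tg hA v c • ω ≠ ω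

variable (Ω) in
/-- the degree is below the number of points -/
def Small : Prop := Nat.card Ω * (Nat.card F - 1) + 1 < Nat.card F * Nat.card F * Nat.card P.W

theorem A_ne_top (hN : NoFix B Ω) (ω : Ω) : P.A ω ≠ ⊤ := fun h => by
  obtain ⟨c, hc⟩ := hN P.alt P.p P.p_ne ω
  exact hc (show c ∈ P.A ω from h ▸ trivial)

theorem th_mul_A (ω : Ω) : (P.th ω).ncard * Nat.card (P.A ω) = Nat.card F := P.card_th ω

theorem card_W_ge {u : P.W} (hu : u ≠ 0) : Nat.card F * Nat.card F ≤ Nat.card P.W := by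
  obtain ⟨v, hv⟩ := P.exists_pair_W u hu 1
  rw [← Nat.card_prod]
  refine Nat.card_le_card_of_injective (fun ab => ab.1 • u + ab.2 • v) fun ab cd h => ?_
  have h1 := congrArg (fun z : P.W => B (u : V) (z : V)) h
  have h2 := congrArg (fun z : P.W => B (z : V) (v : V)) h
  simp [P.alt.self_eq_zero, hv] at h1 h2
  exact Prod.ext h2 h1

theorem exists_in_perp {u : P.W} (hu : u ≠ 0) {v : P.W} (hv : ∀ a : F, v ≠ a • u) :
    ∃ x : P.W, B (u : V) (x : V) = 0 ∧ B (v : V) (x : V) = 1 := by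
  obtain ⟨u', hu'⟩ := P.exists_pair_W u hu 1
  by_contra hc
  push Not at hc
  refine hv (B (v : V) (u' : V)) (sub_eq_zero.mp ?_)
  by_contra hne
  obtain ⟨z, hz⟩ := P.exists_pair_W _ hne 1
  refine hc (z - B (u : V) (z : V) • u') ?_ ?_
  · simp [hu']
  · simp only [Submodule.coe_sub, Submodule.coe_smul, map_sub, map_smul, LinearMap.sub_apply,
      LinearMap.smul_apply, smul_eq_mul] at hz ⊢
    linear_combination hz

theorem card_W_eq {u : P.W} (hu : u ≠ 0)
    (h : ∀ x : P.W, B (u : V) (x : V) = 0 → ∃ a : F, x = a • u) :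
    Nat.card P.W = Nat.card F * Nat.card F := by
  refine le_antisymm ?_ (P.card_W_ge hu)
  obtain ⟨v, hv⟩ := P.exists_pair_W u hu 1
  rw [← Nat.card_prod]
  refine Nat.card_le_card_of_surjective (fun ab => ab.1 • u + ab.2 • v) fun x => ?_
  obtain ⟨a, ha⟩ := h (x - B (u : V) (x : V) • v) (by simp [hv])
  exact ⟨(a, B (u : V) (x : V)), by show a • u + _ = x; rw [← ha]; abel⟩

theorem big (hd : P.Small Ω) (hq : 3 ≤ Nat.card F) (ω : Ω) {u : P.W} (hu0 : u ≠ 0)
    {b : ℕ} (hb : b ≤ (P.through ω u).ncard) (hbi : Nat.card F + 2 ≤ b * (P.th ω).ncard) (_hu : u ∈ P.D ω) :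
    False := by
  obtain ⟨h1, h2⟩ := P.bound_of_through ω hu0 hb
  refine big_arith hq (P.card_W_ge hu0) ((Nat.mul_le_mul_left _ hbi).trans (h1.trans (le_trans ?_ h2))) hd
  exact Nat.mul_le_mul_left _ (Nat.mul_le_mul_right _ (Nat.sub_le _ _))

theorem uniq (hd : P.Small Ω) (hN : NoFix B Ω) (hq : 3 ≤ Nat.card F) {ω : Ω} (g : P.Gw) (c : Fˣ) {v : P.W}
    (hv : v ∈ P.D ω) (hv0 : v ≠ 0) (hgv : (c : F)⁻¹ • P.act g v ∈ P.D ω)
    (hA : scl (c : F) (P.A ω) = (P.A ω : Set F)) : P.lev g c • ω ∈ P.orb ω := by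
  by_contra hne
  have hu0 : (c : F)⁻¹ • P.act g v ≠ 0 := by
    refine smul_ne_zero (inv_ne_zero c.ne_zero) fun h => hv0 ?_
    rw [← P.act_inv g v, h, P.act_zero]
  refine P.big hd hq ω hu0 ((P.cls_le_through ω hgv hu0).2 g c ((P.mem_D_mk' g c ω v).mpr hv) hA hne) ?_ hgv
  rw [mul_assoc]
  exact (cls_bound _ (P.A_ne_top hN ω) (P.th_mul_A ω) hq).1

theorem scl_one (A : AddSubgroup F) : scl (1 : F) A = (A : Set F) := by ext; simp [scl]

theorem gw_uniq (hd : P.Small Ω) (hN : NoFix B Ω) (hq : 3 ≤ Nat.card F) {ω : Ω} (g : P.Gw) {v : P.W}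
    (hv : v ∈ P.D ω) (hv0 : v ≠ 0) (hgv : P.act g v ∈ P.D ω) : g.1 • ω ∈ P.orb ω := by
  rw [← P.lev_gw g]
  exact P.uniq hd hN hq g 1 hv hv0 (by simpa using hgv) (by simpa using scl_one _)

theorem gw_D {ω : Ω} {g : P.Gw} (h : g.1 • ω ∈ P.orb ω) {v : P.W} (hv : v ∈ P.D ω) :
    P.act g v ∈ P.D ω := by
  rw [← P.D_orb h, ← P.lev_gw g]
  simpa using (P.mem_D_mk' g 1 ω v).mpr hv

theorem gw_orb {ω x : Ω} {g : P.Gw} (h : g.1 • ω ∈ P.orb ω) (hx : x ∈ P.orb ω) : g.1 • x ∈ P.orb x := by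
  rw [P.orb_eq hx, ← P.orb_eq h, ← P.lev_gw g, ← P.lev_orb]
  exact Set.smul_mem_smul_set hx

theorem shape (hd : P.Small Ω) (hN : NoFix B Ω) (hq : 3 ≤ Nat.card F) (ω : Ω) {u : P.W} (hu : u ∈ P.D ω)
    (hu0 : u ≠ 0) (hline : ∃ v ∈ P.D ω, ∀ a : F, v ≠ a • u) : ∀ x, x ∈ P.D ω := by
  obtain ⟨v, hv, hvu⟩ := hline
  have key : ∀ {u v : P.W}, u ∈ P.D ω → u ≠ 0 → v ∈ P.D ω → ∀ x : P.W, B (u : V) (x : V) = 0 →
      ∀ γ : F, (γ * B (v : V) (x : V)) • x ∈ P.D ω := by
    intro u v hu hu0 hv x hx γ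
    have h1 : (P.tW x γ).1 • ω ∈ P.orb ω := P.gw_uniq hd hN hq _ hu hu0 (by
      rw [P.act_tW, hx, mul_zero, zero_smul, add_zero]; exact hu)
    have h2 := (P.D ω).sub_mem (P.gw_D h1 hv) hv
    rwa [P.act_tW, add_sub_cancel_left] at h2
  obtain ⟨v, hv, huv⟩ : ∃ v ∈ P.D ω, B (u : V) (v : V) ≠ 0 ∨ ∃ w ∈ P.D ω, B (v : V) (w : V) ≠ 0 := by
    by_cases h : B (u : V) (v : V) = 0
    · obtain ⟨x, hx, hvx⟩ := P.exists_in_perp hu0 hvu
      have := key hu hu0 hv x hx 1
      rw [hvx, mul_one, one_smul] at this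
      exact ⟨v, hv, Or.inr ⟨x, this, by rw [hvx]; exact one_ne_zero⟩⟩
    · exact ⟨v, hv, Or.inl h⟩
  obtain ⟨u, hu, v, hv, huv⟩ : ∃ u ∈ P.D ω, ∃ v ∈ P.D ω, B (u : V) (v : V) ≠ 0 := by
    rcases huv with h | ⟨w, hw, h⟩
    · exact ⟨u, hu, v, hv, h⟩
    · exact ⟨v, hv, w, hw, h⟩
  have hu0 : u ≠ 0 := fun h => huv (by simp [h])
  have hv0 : v ≠ 0 := fun h => huv (by simp [h])
  have hvu : B (v : V) (u : V) ≠ 0 := by rw [alt_flip P.alt (u : V)]; exact neg_ne_zero.mpr huv
  have hlu : ∀ a : F, a • u ∈ P.D ω := fun a => by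
    have := key hu hu0 hv u (P.alt.self_eq_zero _) (a / B (v : V) (u : V))
    rwa [div_mul_cancel₀ _ hvu] at this
  have hlv : ∀ a : F, a • v ∈ P.D ω := fun a => by
    have := key hv hv0 hu v (P.alt.self_eq_zero _) (a / B (u : V) (v : V))
    rwa [div_mul_cancel₀ _ huv] at this
  intro z
  set x := z - (B (u : V) (z : V) / B (u : V) (v : V)) • v with hxdef
  have hx : B (u : V) (x : V) = 0 := by simp [hxdef, huv]
  have hxD : x ∈ P.D ω := by
    by_cases h : B (v : V) (x : V) = 0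
    · have hx' : B (u : V) ((x + u : P.W) : V) = 0 := by simp [hx, P.alt.self_eq_zero]
      have h' : B (v : V) ((x + u : P.W) : V) ≠ 0 := by simp [h, hvu]
      have := key hu hu0 hv (x + u) hx' (B (v : V) ((x + u : P.W) : V))⁻¹
      rw [inv_mul_cancel₀ h', one_smul] at this
      simpa using (P.D ω).sub_mem this hu
    · have := key hu hu0 hv x hx (B (v : V) (x : V))⁻¹
      rwa [inv_mul_cancel₀ h, one_smul] at this
  have := (P.D ω).add_mem hxD (hlv (B (u : V) (z : V) / B (u : V) (v : V)))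
  rwa [hxdef, sub_add_cancel] at this

theorem W0_of_line {ω : Ω} {u : P.W} (hline : ∀ v ∈ P.D ω, ∃ a : F, v = a • u) {x : P.W}
    (hx : B (u : V) (x : V) = 0) : x ∈ P.W0 ω := by
  rw [← P.ann_ann (P.W0 ω)]
  intro v hv
  obtain ⟨a, rfl⟩ := hline v hv
  rw [P.psi_apply, alt_flip P.alt ((a • u : P.W) : V) (x : V)]
  simp [hx]

theorem ne_zero_of_forall_ne {u x : P.W} (h : ∀ a : F, x ≠ a • u) : x ≠ 0 := fun h0 =>
  h 0 (by rw [h0, zero_smul])

/-! ### Odd characteristic -/

theorem half_mem {M : Type*} [AddCommGroup M] [Finite M] (h2 : ∀ m : M, m + m = 0 → m = 0)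
    (H : AddSubgroup M) {a : M} (h : a + a ∈ H) : a ∈ H := by
  obtain ⟨b, hb⟩ := (Finite.injective_iff_surjective (f := fun b : H => b + b)).mp
    (fun x y hxy => by
      have : (x.1 - y.1) + (x.1 - y.1) = 0 := by
        have e := congrArg Subtype.val hxy
        simp only [AddSubgroup.coe_add] at e
        rw [sub_add_sub_comm, e, sub_self]
      exact Subtype.ext (sub_eq_zero.mp (h2 _ this))) ⟨a + a, h⟩
  have e : (b : M) + b = a + a := congrArg Subtype.val hb
  have : (b : M) - a = 0 := h2 _ (by rw [sub_add_sub_comm, e, sub_self])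
  rw [← sub_eq_zero.mp this]
  exact b.2

section odd

variable (h2 : (2 : F) ≠ 0)
include h2

theorem two_F (m : F) (h : m + m = 0) : m = 0 := by
  rw [← two_mul] at h; exact (mul_eq_zero.mp h).resolve_left h2

theorem two_W (m : P.W) (h : m + m = 0) : m = 0 := by
  rw [← two_smul F] at h; exact (smul_eq_zero.mp h).resolve_left h2

omit h2 in
theorem sig_sig : P.sig * P.sig = 1 := by
  refine Subtype.ext (gext fun x => ?_)
  show -((P.zc (-1)).1 (-((P.zc (-1)).1 x))) = x
  rw [map_neg, neg_neg, ← mul_apply', P.zc_mul, neg_mul_neg, one_mul, P.zc_one]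
  rfl

/-- a root group orbit fixed by minus one, fixed pointwise -/
theorem sig_fixed {ω : Ω} (h : P.sig.1 • ω ∈ P.orb ω) :
    ∃ x ∈ P.orb ω, P.sig.1 • x = x ∧
      (∀ g : P.Gw, g.1 • ω ∈ P.orb ω → g.1 • x ∈ P.th x) ∧ ∀ w ∈ P.W0 x, P.e w • x = x := by
  obtain ⟨a, w, hw⟩ := h
  set v := (2 : F)⁻¹ • w
  have hv : v + v = w := by rw [← two_smul F, smul_inv_smul₀ h2]
  set x := P.e v • ω
  have hx : x ∈ P.orb ω := P.e_mem_orb v ω
  have hsth : P.sig.1 • P.th x = P.th x := by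
    rw [← P.e_th, ← mul_smul, P.gw_e, P.act_sig, mul_smul, P.gw_th, hw, P.th_t, ← P.e_th, P.e_e_th, ← hv]
    congr 1
    congr 1
    abel
  obtain ⟨b, hb⟩ : ∃ b, P.t b • x = P.sig.1 • x := by
    rw [P.gw_th, P.th_eq_iff, P.mem_th] at hsth; exact hsth
  have hA : ∀ {b : F}, b + b ∈ P.A x → b ∈ P.A x := fun h => half_mem (two_F h2) _ h
  have hsx : P.sig.1 • x = x := by
    rw [← hb]
    refine hA ?_
    rw [P.mem_A, P.t_add, mul_smul, hb, ← mul_smul, ← P.gw_t, mul_smul, hb, ← mul_smul, ← Subgroup.coe_mul,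
      P.sig_sig, Subgroup.coe_one, one_smul]
  refine ⟨x, hx, hsx, fun g hg => ?_, fun w hw => ?_⟩
  · obtain ⟨c, z, hz⟩ := P.gw_orb hg hx
    have hfix : P.sig.1 • P.th (g.1 • x) = P.th (g.1 • x) := by
      rw [P.gw_th, ← mul_smul, ← Subgroup.coe_mul, P.sig_comm, Subgroup.coe_mul, mul_smul, hsx]
    rw [hz, P.th_t, ← P.e_th, ← mul_smul, P.gw_e, P.act_sig, mul_smul, hsth] at hfix
    have hz0 : z ∈ P.W0 x := by
      refine half_mem (P.two_W h2) _ ?_
      rw [P.mem_W0, ← P.e_e_th, ← hfix, P.e_e_th, add_neg_cancel, P.e_th_zero]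
    rw [← P.th_eq_iff, hz, P.th_t, ← P.e_th]
    exact hz0
  · obtain ⟨c, hc⟩ := P.mem_W0_iff.mp hw
    rw [hc]
    refine hA ?_
    have h1 : P.e (-w) • x = P.t c • x := by
      have := congrArg (fun y => P.sig.1 • y) hc
      simp only [← mul_smul, P.gw_e, P.gw_t, P.act_sig] at this
      rwa [mul_smul, mul_smul, hsx] at this
    rw [P.mem_A, P.t_add, mul_smul]
    calc P.t c • P.t c • x = P.t c • P.e (-w) • x := by rw [h1]
      _ = P.e (-w) • P.t c • x := by rw [← mul_smul, P.t_e, mul_smul]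
      _ = P.e (-w) • P.e w • x := by rw [hc]
      _ = x := by
        rw [← mul_smul, P.e_mul, neg_add_cancel, P.e_zero, mul_one]
        simp [P.alt.self_eq_zero, t, tg_zero]

omit h2 in
theorem B_mem_A {x : Ω} (h : ∀ w ∈ P.W0 x, P.e w • x = x) {w v : P.W} (hw : w ∈ P.W0 x) (hv : v ∈ P.W0 x) :
    B (v : V) (w : V) ∈ P.A x := by
  have := congrArg (fun g => g • x) (P.e_mul w v)
  simp only [mul_smul, h _ hv, h _ hw, h _ ((P.W0 x).add_mem hw hv)] at this
  exact this.symm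

omit h2 in
/-- the torus of a line kills translations of its root group -/
theorem torus_contra (hN : NoFix B Ω) (hq4 : 4 ≤ Nat.card F) {x : Ω} {u : P.W} (hu0 : u ≠ 0)
    (hx' : ∀ g : P.Gw, (∃ a : F, P.act g u = a • u) → g.1 • x ∈ P.th x) : False := by
  classical
  obtain ⟨c, hc⟩ : ∃ c : Fˣ, (c : F) * c ≠ 1 := by
    by_contra hc
    push Not at hc
    have : Nat.card Fˣ ≤ Nat.card Bool := by
      refine Nat.card_le_card_of_injective (fun c : Fˣ => decide ((c : F) = 1)) fun a b h => ?_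
      simp only [decide_eq_decide] at h
      rcases mul_self_eq_one_iff.mp (hc a) with ha | ha <;> rcases mul_self_eq_one_iff.mp (hc b) with hb | hb
      · exact Units.ext (ha.trans hb.symm)
      · exact Units.ext (ha.trans (h.mp ha).symm)
      · exact Units.ext ((h.mpr hb).trans hb.symm)
      · exact Units.ext (ha.trans hb.symm)
    rw [Nat.card_units, Nat.card_eq_fintype_card (α := Bool), Fintype.card_bool] at this
    omega
  obtain ⟨g, hg⟩ := P.trans_W u _ hu0 (smul_ne_zero c.ne_zero hu0)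
  obtain ⟨cc, hcc⟩ := hN P.alt (u : V) (fun h => hu0 (Subtype.ext h)) x
  refine hcc ?_
  set γ := cc / ((c : F) * c - 1)
  obtain ⟨a, ha⟩ := P.mem_th.mp (hx' g ⟨c, hg⟩)
  obtain ⟨b, hb⟩ := P.mem_th.mp (hx' (P.tW u γ) ⟨1, by
    rw [P.act_tW, P.alt.self_eq_zero, mul_zero, zero_smul, add_zero, one_smul]⟩)
  have e1 : g.1 * (P.tW u γ).1 = tg P.alt (u : V) ((c : F) * c * γ) * g.1 := by
    have h := tg_conj P.alt g.1 (u : V) γ
    have h' : g.1.1 (u : V) = (c : F) • (u : V) := congrArg Subtype.val hg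
    rw [h', tg_smul, show γ * (c : F) * c = (c : F) * c * γ by ring] at h
    exact mul_inv_eq_iff_eq_mul.mp h
  have e2 : P.t a • tg P.alt (u : V) γ • x = P.t a • tg P.alt (u : V) ((c : F) * c * γ) • x := by
    have l : (g.1 * (P.tW u γ).1) • x = P.t b • P.t a • x := by
      rw [mul_smul, ← hb, ← mul_smul, P.gw_t, mul_smul, ← ha]
    have r : (tg P.alt (u : V) ((c : F) * c * γ) * g.1) • x =
        P.t a • tg P.alt (u : V) ((c : F) * c * γ) • x := by
      rw [mul_smul, ← ha, ← mul_smul, ← mul_smul]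
      exact congrArg (fun k => k • x) (P.gw_t (P.tW u _) a)
    rw [← e1, l] at r
    rw [← r, show tg P.alt (u : V) γ • x = P.t b • x from hb.symm, ← mul_smul, ← mul_smul, ← P.t_add,
      ← P.t_add, add_comm]
  have e3 := MulAction.injective _ e2
  have hne : (c : F) * c - 1 ≠ 0 := sub_ne_zero.mpr hc
  have e4 : tg P.alt (u : V) cc * tg P.alt (u : V) γ = tg P.alt (u : V) ((c : F) * c * γ) := by
    rw [tg_mul]
    congr 1
    have hg2 : γ * ((c : F) * c - 1) = cc := div_mul_cancel₀ _ hne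
    linear_combination -hg2
  rw [← e4, mul_smul] at e3
  have e5 : (tg P.alt (u : V) γ) • (tg P.alt (u : V) cc • x) = tg P.alt (u : V) γ • x := by
    rw [← mul_smul, tg_comm P.alt (P.alt.self_eq_zero _), mul_smul]; exact e3.symm
  exact MulAction.injective _ e5

theorem line_odd (hd : P.Small Ω) (hN : NoFix B Ω) (hq : 3 ≤ Nat.card F)
    (hexc : Nat.card F = 3 → Nat.card F * Nat.card F < Nat.card P.W)
    {ω : Ω} {u : P.W} (hu : u ∈ P.D ω) (hu0 : u ≠ 0)
    (hline : ∀ v ∈ P.D ω, ∃ a : F, v = a • u) : False := by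
  have hsig : P.sig.1 • ω ∈ P.orb ω :=
    P.gw_uniq hd hN hq _ hu hu0 (by rw [P.act_sig]; exact (P.D ω).neg_mem hu)
  obtain ⟨x, hx, -, hgx, hW⟩ := P.sig_fixed h2 hsig
  rw [← P.D_orb hx] at hu hline
  have nopair : ∀ w z : P.W, (∀ a : F, a • w ∈ P.W0 x) → z ∈ P.W0 x → B (w : V) (z : V) ≠ 0 → False := by
    intro w z hw hz hwz
    refine P.A_ne_top hN x (eq_top_iff.mpr fun a _ => ?_)
    have := P.B_mem_A hW hz (hw (a / B (w : V) (z : V)))
    simpa [hwz] using this
  by_cases hbig : ∃ y : P.W, B (u : V) (y : V) = 0 ∧ ∀ a : F, y ≠ a • u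
  · obtain ⟨y, hy, hyu⟩ := hbig
    obtain ⟨z, hz, hyz⟩ := P.exists_in_perp hu0 hyu
    exact nopair y z (fun a => P.W0_of_line hline (by simp [hy])) (P.W0_of_line hline hz)
      (by rw [hyz]; exact one_ne_zero)
  push Not at hbig
  have hFu : ∀ a : F, a • u ∈ P.W0 x := fun a => P.W0_of_line hline (by simp [P.alt.self_eq_zero])
  by_cases hfull : ∀ a : F, a • u ∈ P.D x
  swap
  · push Not at hfull
    obtain ⟨a, ha⟩ := hfull
    refine ha fun z hz => ?_
    by_contra hne
    by_cases hzu : B (u : V) (z : V) = 0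
    · exact hne (by simp [P.psi_apply, hzu])
    · exact nopair u z hFu hz hzu
  have hq4 : 4 ≤ Nat.card F := by
    by_contra h
    have h3 : Nat.card F = 3 := by omega
    have := hexc h3
    rw [P.card_W_eq hu0 hbig] at this
    exact absurd this (lt_irrefl _)
  have hx' : ∀ g : P.Gw, (∃ a : F, P.act g u = a • u) → g.1 • x ∈ P.th x := fun g ⟨a, ha⟩ =>
    hgx g (P.gw_uniq hd hN hq g (P.D_orb hx ▸ hu) hu0 (by rw [ha, ← P.D_orb hx]; exact hfull a))
  exact P.torus_contra hN hq4 hu0 hx'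

theorem top_odd (hd : P.Small Ω) (hN : NoFix B Ω) (hq : 3 ≤ Nat.card F)
    (hexc : Nat.card F = 3 → Nat.card F * Nat.card F < Nat.card P.W)
    {ω : Ω} {u : P.W} (hu0 : u ≠ 0) (htop : ∀ z, z ∈ P.D ω) : False := by
  have hall : ∀ g : P.Gw, g.1 • ω ∈ P.orb ω := fun g => P.gw_uniq hd hN hq g (htop u) hu0 (htop _)
  obtain ⟨x, -, -, hgx, -⟩ := P.sig_fixed h2 (hall P.sig)
  have hth : ∀ g : P.Gw, ∃ a, P.t a • x = g.1 • x := fun g => P.mem_th.mp (hgx g (hall g))
  have comm : ∀ g k : P.Gw, g.1 • k.1 • x = k.1 • g.1 • x := by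
    intro g k
    obtain ⟨a, ha⟩ := hth g
    obtain ⟨b, hb⟩ := hth k
    rw [← hb, ← ha, ← mul_smul g.1, P.gw_t, mul_smul, ← ha, ← mul_smul k.1, P.gw_t, mul_smul, ← hb,
      ← mul_smul, ← mul_smul, ← P.t_add, ← P.t_add, add_comm]
  have hconj : ∀ (g : P.Gw) (v : P.W) (γ : F), (P.tW (P.act g v) γ).1 • x = (P.tW v γ).1 • x := by
    intro g v γ
    have h : g.1 * (P.tW v γ).1 = (P.tW (P.act g v) γ).1 * g.1 :=
      mul_inv_eq_iff_eq_mul.mp (tg_conj P.alt g.1 (v : V) γ)
    have h' := congrArg (fun k => k • x) h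
    simp only [mul_smul] at h'
    rw [comm g (P.tW v γ), comm (P.tW (P.act g v) γ) g] at h'
    exact (MulAction.injective g.1 (by dsimp only; rw [comm g (P.tW v γ)]; exact h')).symm
  by_cases hbig : ∃ v : P.W, B (u : V) (v : V) = 0 ∧ ∀ a : F, v ≠ a • u
  · obtain ⟨v, hv, hvu⟩ := hbig
    obtain ⟨g, hg⟩ := P.trans_W v (v + u) (P.ne_zero_of_forall_ne hvu)
      (fun h => hvu (-1) (by rw [eq_neg_of_add_eq_zero_left h, neg_smul, one_smul]))
    obtain ⟨g', hg'⟩ := P.trans_W v (v + (-1 : F) • u) (P.ne_zero_of_forall_ne hvu)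
      (fun h => hvu 1 (by rw [eq_neg_of_add_eq_zero_left h, neg_smul, one_smul, neg_neg]))
    obtain ⟨cc, hcc⟩ := hN P.alt (u : V) (fun h => hu0 (Subtype.ext h)) x
    refine hcc ?_
    have h : tg P.alt ((v + u : P.W) : V) (cc / 2) • tg P.alt ((v + (-1 : F) • u : P.W) : V) (cc / 2) • x =
        tg P.alt (v : V) (2 * (cc / 2)) • tg P.alt (u : V) (2 * (cc / 2)) • x := by
      rw [← mul_smul, ← mul_smul]
      exact congrArg (fun k => k • x) (tg_identity P.alt hv _)
    rw [← hg, ← hg'] at h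
    change (P.tW (P.act g v) (cc / 2)).1 • (P.tW (P.act g' v) (cc / 2)).1 • x =
      (P.tW v (2 * (cc / 2))).1 • tg P.alt (u : V) (2 * (cc / 2)) • x at h
    rw [hconj g', comm, hconj g, ← mul_smul,
      show (P.tW v (cc / 2)).1 * (P.tW v (cc / 2)).1 = (P.tW v (2 * (cc / 2))).1 by
        rw [two_mul]; exact tg_mul P.alt _ _ _] at h
    have h' := (MulAction.injective _ h).symm
    rwa [mul_div_cancel₀ _ h2] at h'
  push Not at hbig
  refine P.torus_contra hN ?_ hu0 fun g _ => hgx g (hall g)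
  by_contra h
  have := hexc (by omega)
  rw [P.card_W_eq hu0 hbig] at this
  exact lt_irrefl _ this

end odd

/-! ### Characteristic two -/

section even

variable (h2 : (2 : F) = 0)
include h2

theorem neg_F (a : F) : -a = a := neg_eq_iff_add_eq_zero.mpr (by rw [← two_mul, h2, zero_mul])

theorem neg_W (w : P.W) : -w = w :=
  neg_eq_iff_add_eq_zero.mpr (by rw [← two_smul F, h2, zero_smul])

theorem e_comm (w v : P.W) : P.e w * P.e v = P.e v * P.e w := by
  rw [P.e_mul, P.e_mul, add_comm v w, alt_flip P.alt (v : V) (w : V), neg_F h2]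

/-- an element of the radical fixing one point of an orbit fixes the orbit -/
theorem fix_orb {ω y : Ω} (hy : y ∈ P.orb ω) {a : F} {w : P.W} (h : P.t a • P.e w • ω = ω) :
    P.t a • P.e w • y = y := by
  obtain ⟨b, v, rfl⟩ := hy
  have e1 : P.t a * (P.e w * (P.t b * P.e v)) = P.t b * P.e v * (P.t a * P.e w) := by
    calc P.t a * (P.e w * (P.t b * P.e v)) = P.t a * (P.t b * (P.e w * P.e v)) := by
          rw [← mul_assoc (P.e w), ← P.t_e, mul_assoc]
      _ = P.t b * (P.t a * (P.e v * P.e w)) := by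
          rw [P.e_comm h2, ← mul_assoc, ← P.t_add, add_comm, P.t_add, mul_assoc]
      _ = P.t b * P.e v * (P.t a * P.e w) := by rw [← mul_assoc (P.t a), P.t_e]; simp only [mul_assoc]
  simp only [← mul_smul]
  rw [e1, mul_smul, mul_smul (P.t a), h]

theorem D_bot_even (hd : P.Small Ω) (hN : NoFix B Ω) (hq : 4 ≤ Nat.card F) (ω : Ω) : P.D ω = ⊥ := by
  by_contra hne
  obtain ⟨u, hu, hu0⟩ : ∃ u ∈ P.D ω, u ≠ 0 := by
    by_contra hc
    push Not at hc
    exact hne ((AddSubgroup.eq_bot_iff_forall _).mpr hc)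
  have hA : P.A ω = ⊥ := by
    by_contra hA
    exact P.big hd (by omega) ω hu0 (P.cls_le_through ω hu hu0).1
      (((cls_bound _ (P.A_ne_top hN ω) (P.th_mul_A ω) (by omega)).2 h2).2 hA) hu
  -- the dual is a full line or everything
  have hfull : ∀ a : F, a • u ∈ P.D ω := by
    by_cases hline : ∀ v ∈ P.D ω, ∃ a : F, v = a • u
    swap
    · push Not at hline
      exact fun a => P.shape hd hN (by omega) ω hu hu0 hline _
    by_cases hbig : ∃ y : P.W, B (u : V) (y : V) = 0 ∧ ∀ a : F, y ≠ a • u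
    · exfalso
      obtain ⟨y, hy, hyu⟩ := hbig
      obtain ⟨z, hz, hyz⟩ := P.exists_in_perp hu0 hyu
      refine P.A_ne_top hN ω (eq_top_iff.mpr fun a _ => ?_)
      have key : ∀ δ β : F, β ≠ 0 → P.t (δ * β) • P.e (δ • y) • ω = ω := by
        intro δ β hβ
        obtain ⟨b, hb⟩ := P.mem_W0_iff.mp (P.W0_of_line (ω := ω) hline (x := β • z) (by simp [hz]))
        have hfix : P.t (-b) • P.e (β • z) • ω = ω := by
          rw [hb, ← mul_smul, ← P.t_add, neg_add_cancel, t, tg_zero, one_smul]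
        set g := P.tW y (δ / β)
        have hgu : P.act g u = u := by rw [P.act_tW, hy, mul_zero, zero_smul, add_zero]
        have hgo := P.gw_uniq hd hN (by omega) g hu hu0 (by rw [hgu]; exact hu)
        have hgz : P.act g (β • z) = β • z + δ • y := by
          rw [P.act_tW]
          congr 2
          simp only [Submodule.coe_smul, map_smul, LinearMap.smul_apply, smul_eq_mul]
          rw [alt_flip P.alt (y : V) (z : V), hyz, neg_F h2, mul_one, div_mul_cancel₀ _ hβ]
        have h1 : P.t (-b) • P.e (β • z + δ • y) • g.1 • ω = g.1 • ω := by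
          conv_rhs => rw [← hfix]
          rw [← hgz, ← mul_smul g.1, P.gw_t, mul_smul, ← mul_smul g.1, P.gw_e, mul_smul]
        have h3 := P.fix_orb h2 (P.orb_eq hgo ▸ P.orb_self ω) h1
        have h4 : P.e (β • z + δ • y) • ω = P.e (β • z) • ω :=
          MulAction.injective (P.t (-b)) (h3.trans hfix.symm)
        have h5 := congrArg (fun p => P.e (β • z) • p) h4
        simp only [← mul_smul] at h5
        rw [P.e_mul, P.e_mul, ← add_assoc, ← two_smul F (β • z), h2, zero_smul, zero_add] at h5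
        have e : B ((β • z + δ • y : P.W) : V) ((β • z : P.W) : V) = δ * β := by
          simp only [Submodule.coe_add, Submodule.coe_smul, map_add, map_smul, LinearMap.add_apply,
            LinearMap.smul_apply, smul_eq_mul, P.alt.self_eq_zero, hyz]
          ring
        rw [e, P.alt.self_eq_zero, P.e_zero, show P.t (0 : F) = 1 from tg_zero P.alt P.p, one_mul, one_smul,
          mul_smul] at h5
        exact h5
      obtain ⟨c, hc0, hc1⟩ : ∃ c : F, c ≠ 0 ∧ c ≠ 1 := by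
        have hcard : Nat.card ({0, 1} : Set F) < Nat.card F := by
          rw [Nat.card_coe_set_eq, Set.ncard_pair zero_ne_one]; omega
        by_contra hc
        push Not at hc
        have : ({0, 1} : Set F) = Set.univ := Set.eq_univ_of_forall fun c => by
          by_cases h : c = 0
          · exact Or.inl h
          · exact Or.inr (hc c h)
        rw [this, Nat.card_coe_set_eq, Set.ncard_univ] at hcard
        exact lt_irrefl _ hcard
      have hne : (1 : F) - c ≠ 0 := sub_ne_zero.mpr (Ne.symm hc1)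
      set δ := a / (1 - c)
      have h1 := key δ 1 one_ne_zero
      have h3 := key δ c hc0
      have hh : a + δ * c = δ * 1 := by
        have : δ * (1 - c) = a := div_mul_cancel₀ _ hne
        linear_combination -this
      rw [P.mem_A]
      calc P.t a • ω = P.t a • P.t (δ * c) • P.e (δ • y) • ω := by rw [h3]
        _ = P.t (δ * 1) • P.e (δ • y) • ω := by rw [← mul_smul, ← P.t_add, hh]
        _ = ω := h1
    · push Not at hbig
      by_contra hnot
      push Not at hnot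
      obtain ⟨a, ha⟩ := hnot
      have hwq := P.card_W_eq hu0 hbig
      obtain ⟨hX1, hX2⟩ := P.bound_of_through ω hu0 (P.cls_le_through ω hu hu0).1
      set L : AddSubgroup F := (P.D ω).comap (AddMonoidHom.mk' (fun a : F => a • u) fun a b => add_smul a b u)
      have hL : Nat.card L = Nat.card (P.D ω) := by
        refine Nat.card_congr (Equiv.ofBijective (fun l : L => (⟨l.1 • u, l.2⟩ : P.D ω)) ⟨?_, ?_⟩)
        · exact fun l l' h => Subtype.ext (smul_left_injective F hu0 (congrArg Subtype.val h))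
        · rintro ⟨v, hv⟩
          obtain ⟨b, rfl⟩ := hline v hv
          exact ⟨⟨b, hv⟩, rfl⟩
      have hlt : Nat.card (P.D ω) < Nat.card F := by
        rw [← hL]
        refine lt_of_le_of_ne (Nat.card_le_card_of_injective _ Subtype.val_injective) fun h => ha ?_
        have : a ∈ L := AddSubgroup.eq_top_of_card_eq L h ▸ trivial
        exact this
      obtain ⟨k, hk⟩ := AddSubgroup.card_addSubgroup_dvd_card L
      rw [hL] at hk
      have hk2 : 2 * Nat.card (P.D ω) ≤ Nat.card F := by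
        rw [hk, mul_comm (Nat.card (P.D ω)) k]
        refine Nat.mul_le_mul_right _ ?_
        rcases k with _ | _ | k
        · omega
        · omega
        · omega
      have hci := ((cls_bound _ (P.A_ne_top hN ω) (P.th_mul_A ω) (by omega)).2 h2).1
      rw [hwq] at hX1
      refine line_arith (X := (P.img ω).ncard * (P.th ω).ncard) (by omega) hk2
        ((Nat.mul_le_mul_left _ hci).trans (hX1.trans (le_of_eq ?_))) ((le_of_eq ?_).trans hX2)
        (by have h := hd; rwa [Small, hwq] at h)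
      · ring
      · ring
  -- the torus fixes the orbit and a unique point in it
  obtain ⟨c, hc0, hc1⟩ : ∃ c : F, c ≠ 0 ∧ c ≠ 1 := by
    by_contra hc
    push Not at hc
    have h01 : Nat.card F ≤ Nat.card ({0, 1} : Set F) := by
      rw [← Nat.card_univ (α := F)]
      exact Nat.card_mono (Set.toFinite _) fun c _ => by
        by_cases h : c = 0
        · exact Or.inl h
        · exact Or.inr (hc c h)
    rw [Nat.card_coe_set_eq, Set.ncard_pair zero_ne_one] at h01
    omega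
  set cu : Fˣ := Units.mk0 c hc0
  have hm : P.lev 1 cu • ω ∈ P.orb ω :=
    P.uniq hd hN (by omega) 1 cu hu hu0 (by rw [P.act_one]; exact hfull _) (by
      rw [hA]; ext a; simp [scl])
  obtain ⟨a, w, hw⟩ := hm
  have hc1' : (1 : F) - c ≠ 0 := sub_ne_zero.mpr (Ne.symm hc1)
  set v := (1 - c)⁻¹ • w
  have hvw : c • v + w = v := by
    have : (1 - c) • v = w := smul_inv_smul₀ hc1' w
    rw [sub_smul, one_smul] at this
    rw [← this]; abel
  obtain ⟨b, hb⟩ : ∃ b, P.lev 1 cu • P.e v • ω = P.t b • P.e v • ω := by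
    refine ⟨B (w : V) ((c • v : P.W) : V) + a, ?_⟩
    rw [← mul_smul, P.lev_e, mul_smul, hw, P.act_one, show (cu : F) = c from rfl]
    simp only [← mul_smul]
    congr 1
    rw [← mul_assoc, ← P.t_e, mul_assoc, P.e_mul, hvw, ← mul_assoc, ← P.t_add, add_comm]
  set x := P.e v • ω
  have hx : x ∈ P.orb ω := P.e_mem_orb v ω
  have hc2 : (1 : F) - c * c ≠ 0 := by
    intro h
    rcases mul_self_eq_one_iff.mp (sub_eq_zero.mp h).symm with h' | h'
    · exact hc1 h'
    · exact hc1 (by rw [h', neg_F h2])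
  set y := P.t (b / (1 - c * c)) • x
  have hy : P.lev 1 cu • y = y := by
    show P.lev 1 cu • P.t _ • x = _
    rw [← mul_smul, P.lev_t, mul_smul, hb, ← mul_smul, ← P.t_add, show (cu : F) = c from rfl]
    congr 2
    have h := div_mul_cancel₀ b hc2
    linear_combination -h
  have hyo : y ∈ P.orb ω := P.orb_eq hx ▸ P.t_mem_orb _ x
  have hWc : ∀ z ∈ P.W0 y, c • z ∈ P.W0 y := fun z hz => by
    have := (P.mem_W0_mk 1 cu y z).mpr hz
    rwa [hy, P.act_one] at this
  have huniq : ∀ z ∈ P.orb y, P.lev 1 cu • z = z → z = y := by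
    intro z hz hfix
    obtain ⟨b', w', rfl⟩ := hz
    have hth : P.th (P.lev 1 cu • (P.t b' • P.e w' • y)) = P.th (P.t b' • P.e w' • y) := by rw [hfix]
    rw [← P.lev_th, P.th_t, ← P.e_th, ← mul_smul, P.lev_e, P.act_one, mul_smul, P.lev_th, hy] at hth
    have hd' : c • w' - w' ∈ P.W0 y := by
      rw [show (cu : F) = c from rfl] at hth
      rw [P.mem_W0, sub_eq_add_neg, add_comm, ← P.e_e_th, hth, P.e_e_th, neg_add_cancel, P.e_th_zero]
    obtain ⟨⟨w'', hw''⟩, he⟩ := (Finite.injective_iff_surjective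
      (f := fun z : P.W0 y => (⟨c • z.1 - z.1, (P.W0 y).sub_mem (hWc _ z.2) z.2⟩ : P.W0 y))).mp
      (fun z z' hzz => by
        have e := congrArg Subtype.val hzz
        simp only at e
        have : (c - 1) • (z.1 - z'.1) = 0 := by
          rw [sub_smul, one_smul, smul_sub, sub_sub_sub_comm, e, sub_self]
        exact Subtype.ext (sub_eq_zero.mp ((smul_eq_zero.mp this).resolve_left (sub_ne_zero.mpr hc1))))
      ⟨_, hd'⟩
    have hw' : w' ∈ P.W0 y := by
      have e : c • w'' - w'' = c • w' - w' := congrArg Subtype.val he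
      have : (c - 1) • (w'' - w') = 0 := by
        rw [sub_smul, one_smul, smul_sub, sub_sub_sub_comm, e, sub_self]
      rw [← sub_eq_zero.mp ((smul_eq_zero.mp this).resolve_left (sub_ne_zero.mpr hc1))]
      exact hw''
    obtain ⟨b'', hb''⟩ := P.mem_W0_iff.mp hw'
    rw [hb''] at hfix ⊢
    rw [← mul_smul (P.t b'), ← P.t_add] at hfix ⊢
    rw [← mul_smul, P.lev_t, mul_smul, hy] at hfix
    have : c * c * (b' + b'') - (b' + b'') ∈ P.A y := by
      rw [show (cu : F) = c from rfl] at hfix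
      rw [P.mem_A, sub_eq_add_neg, add_comm, P.t_add, mul_smul, hfix, ← mul_smul, ← P.t_add, neg_add_cancel, t,
        tg_zero, one_smul]
    rw [P.A_orb hyo, hA, AddSubgroup.mem_bot] at this
    have : (1 - c * c) * (b' + b'') = 0 := by linear_combination -this
    rw [(mul_eq_zero.mp this).resolve_left hc2, t, tg_zero, one_smul]
  obtain ⟨cc, hcc⟩ := hN P.alt (u : V) (fun h => hu0 (Subtype.ext h)) y
  refine hcc ?_
  have hgu : P.act (P.tW u cc) u = u := by rw [P.act_tW, P.alt.self_eq_zero, mul_zero, zero_smul, add_zero]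
  refine huniq _ (P.gw_orb (P.gw_uniq hd hN (by omega) (P.tW u cc) hu hu0 (by rw [hgu]; exact hu)) hyo) ?_
  have hlev : P.lev 1 cu = P.zc cu := by simp [lev]
  show P.lev 1 cu • (P.tW u cc).1 • y = (P.tW u cc).1 • y
  rw [hlev, ← mul_smul, ← P.zc_comm cu (P.tW u cc).2, mul_smul, ← hlev, hy]

/-- every element of the radical moves the point along the root group orbit -/
theorem e_in_th (hd : P.Small Ω) (hN : NoFix B Ω) (hq : 4 ≤ Nat.card F) (ω : Ω) (w : P.W) :
    ∃ a, P.e w • ω = P.t a • ω := by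
  refine P.mem_W0_iff.mp ?_
  rw [← P.ann_ann (P.W0 ω), show P.ann (P.W0 ω) = ⊥ from P.D_bot_even h2 hd hN hq ω]
  intro u hu
  rw [AddSubgroup.mem_bot.mp hu]
  simp [psi_apply]

omit h2 in
theorem mem_W_of {x : V} (hx : B x P.p = 0) (hx' : B x P.p' = 0) : x ∈ P.W := ⟨hx, hx'⟩

/-- the symmetrical step -/
theorem moving_step (hd : P.Small Ω) (hN : NoFix B Ω) (hq : 4 ≤ Nat.card F) {ω : Ω} {x : P.W}
    (hx : x ≠ 0) (htw : ∀ δ : F, ∃ γ, P.e (δ • x) • ω = tg P.alt (x : V) γ • ω)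
    (hmove : ∃ δ : F, P.e (δ • x) • ω ≠ ω) :
    ∃ γ₀ : F, (∀ δ : F, P.e (δ • x) • ω = P.t (δ * δ / γ₀) • ω) ∧ γ₀ ≠ 0 ∧
      (∀ δ : F, P.e (δ • x) • ω = ω ∨ P.e (δ • x) • ω = tg P.alt (x : V) γ₀ • ω) ∧
      ∀ γ, tg P.alt (x : V) γ • ω = ω → γ = 0 := by
  obtain ⟨y, hy⟩ := P.exists_pair_W x hx 1
  have hyx : B (y : V) (x : V) = 1 := by rw [alt_flip P.alt (x : V) (y : V), hy, neg_F h2]
  have rel : ∀ γ, γ ≠ 0 → (∃ a, tg P.alt (x : V) γ • ω = P.t a • ω) →
      ∀ δ : F, P.e (δ • x) • ω = P.t (δ * δ / γ) • ω := by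
    rintro γ hγ ⟨a, ha⟩ δ
    set g := P.tW x γ
    set w := (δ / γ) • y
    obtain ⟨b, hb⟩ := P.e_in_th h2 hd hN hq ω w
    have hgw : P.act g w = w + δ • x := by
      rw [P.act_tW]
      congr 2
      simp only [w, Submodule.coe_smul, map_smul, LinearMap.smul_apply, smul_eq_mul, hyx]
      field_simp
    have ha' : g.1 • ω = P.t a • ω := ha
    have h1 : P.e (w + δ • x) • ω = P.e w • ω := by
      refine MulAction.injective (P.t a) ?_
      show P.t a • _ = P.t a • _
      rw [← mul_smul, P.t_e, mul_smul, ← ha', ← hgw, ← mul_smul, ← P.gw_e, mul_smul, hb, ← mul_smul, P.gw_t,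
        mul_smul, ha', ← mul_smul, ← mul_smul, ← P.t_add, ← P.t_add, add_comm]
    have h3 := congrArg (fun p => P.e w • p) h1
    simp only [← mul_smul] at h3
    rw [P.e_mul, P.e_mul, ← add_assoc, ← two_smul F w, h2, zero_smul, zero_add] at h3
    simp only [P.e_zero, P.alt.self_eq_zero, t, tg_zero, one_mul, one_smul, mul_smul] at h3
    have e : B ((w + δ • x : P.W) : V) (w : V) = δ * δ / γ := by
      simp only [w, Submodule.coe_add, Submodule.coe_smul, map_add, map_smul, LinearMap.add_apply,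
        LinearMap.smul_apply, smul_eq_mul, P.alt.self_eq_zero, hy]
      ring
    rw [e] at h3
    refine MulAction.injective (P.t (δ * δ / γ)) ?_
    show P.t _ • _ = P.t _ • _
    rw [← mul_smul (P.t _) (P.t _), ← P.t_add, ← two_mul, h2, zero_mul,
      show P.t (0 : F) = 1 from tg_zero P.alt P.p, one_smul]
    exact h3
  have hsq : Function.Surjective fun d : F => d * d := (Finite.injective_iff_surjective).mp fun a b h => by
    rcases mul_self_eq_mul_self_iff.mp h with h | h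
    · exact h
    · rw [h, neg_F h2]
  have uni : ∀ γ γ', γ ≠ 0 → γ' ≠ 0 → (∃ a, tg P.alt (x : V) γ • ω = P.t a • ω) →
      (∃ a, tg P.alt (x : V) γ' • ω = P.t a • ω) → γ = γ' := by
    intro γ γ' hγ hγ' h h'
    by_contra hne
    refine P.A_ne_top hN ω (eq_top_iff.mpr fun a _ => ?_)
    have hne' : γ⁻¹ - γ'⁻¹ ≠ 0 := sub_ne_zero.mpr fun e => hne (inv_injective e)
    obtain ⟨δ, hδ⟩ := hsq (a / (γ⁻¹ - γ'⁻¹))
    have e : a + δ * δ / γ' = δ * δ / γ := by
      have : δ * δ * (γ⁻¹ - γ'⁻¹) = a := by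
        have hδ' : δ * δ = a / (γ⁻¹ - γ'⁻¹) := hδ
        rw [hδ', div_mul_cancel₀ _ hne']
      rw [div_eq_mul_inv, div_eq_mul_inv]
      linear_combination -this
    have := (rel γ hγ h δ).symm.trans (rel γ' hγ' h' δ)
    rw [← e, P.t_add, mul_smul] at this
    have hc : P.t a • (P.t (δ * δ / γ') • ω) = P.t (δ * δ / γ') • ω := this
    rw [P.mem_A]
    apply MulAction.injective (P.t (δ * δ / γ'))
    show P.t _ • _ = _
    rw [← mul_smul, ← P.t_add, add_comm, P.t_add, mul_smul]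
    exact hc
  obtain ⟨δ₀, hδ₀⟩ := hmove
  obtain ⟨γ₀, hγ₀⟩ := htw δ₀
  have hγ0 : γ₀ ≠ 0 := fun h => hδ₀ (by rw [hγ₀, h, tg_zero, one_smul])
  have hin : ∀ δ γ : F, P.e (δ • x) • ω = tg P.alt (x : V) γ • ω → ∃ a, tg P.alt (x : V) γ • ω = P.t a • ω := by
    intro δ γ h
    obtain ⟨a, ha⟩ := P.e_in_th h2 hd hN hq ω (δ • x)
    exact ⟨a, h.symm.trans ha⟩
  refine ⟨γ₀, rel γ₀ hγ0 (hin _ _ hγ₀), hγ0, fun δ => ?_, fun γ hγ => ?_⟩
  · obtain ⟨γ, hγ⟩ := htw δ
    by_cases h0 : γ = 0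
    · exact Or.inl (by rw [hγ, h0, tg_zero, one_smul])
    · exact Or.inr (by rw [hγ, uni γ γ₀ h0 hγ0 (hin _ _ hγ) (hin _ _ hγ₀)])
  · by_contra h0
    have e : tg P.alt (x : V) (γ₀ + γ) • ω = tg P.alt (x : V) γ₀ • ω := by
      rw [← tg_mul, mul_smul, hγ]
    have hne : γ₀ + γ ≠ 0 := fun h => hδ₀ (by rw [hγ₀, ← e, h, tg_zero, one_smul])
    obtain ⟨a, ha⟩ := hin _ _ hγ₀
    have := uni (γ₀ + γ) γ₀ hne hγ0 ⟨a, e.trans ha⟩ ⟨a, ha⟩
    exact h0 (by simpa using this)

theorem even_contra (hd : ∀ Q : Frame B, Q.Small Ω) (hN : NoFix B Ω) (hq : 4 ≤ Nat.card F) [Nonempty Ω]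
    {u : P.W} (hu0 : u ≠ 0) : False := by
  obtain ⟨ω⟩ := ‹Nonempty Ω›
  obtain ⟨x, δ, hmove⟩ : ∃ (x : P.W) (δ : F), P.e (δ • x) • ω ≠ ω := by
    by_contra hc
    push Not at hc
    refine P.A_ne_top hN ω (eq_top_iff.mpr fun a _ => ?_)
    have h : ∀ w : P.W, P.e w • ω = ω := fun w => by simpa using hc w 1
    obtain ⟨v, hv⟩ := P.exists_pair_W u hu0 a
    have := congrArg (fun k => k • ω) (P.e_mul v u)
    simp only [mul_smul, h] at this
    rw [hv] at this
    exact this.symm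
  have hx : x ≠ 0 := fun h => hmove (by rw [h, smul_zero, P.e_zero, one_smul])
  have hxV : (x : V) ≠ 0 := fun h => hx (Subtype.ext h)
  obtain ⟨Q, hQp, hQ'⟩ := exists_frame_orth P.alt P.sep (p := (x : V)) (x := P.p) hxV (by
    rw [Submodule.mem_span_singleton]
    rintro ⟨a, ha⟩
    have := congrArg (fun z => B z P.p') ha
    simp [x.2.2, P.pair] at this)
  have hpW : P.p ∈ Q.W := ⟨by rw [hQp]; exact P.p_perp x, hQ'⟩
  have swap : ∀ δ : F, Q.e (δ • ⟨P.p, hpW⟩) = P.e (δ • x) := fun δ => by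
    show eg Q.alt Q.p (δ • P.p) = eg P.alt P.p (δ • (x : V))
    rw [hQp]
    exact (eg_swap P.alt (P.p_perp x) δ).symm
  have hQt : ∀ γ, Q.t γ = tg P.alt (x : V) γ := fun γ => by
    show tg Q.alt Q.p γ = _
    rw [hQp]
  obtain ⟨γ₀, hrel, hγ0, htwo, -⟩ := P.moving_step h2 (hd P) hN hq hx (fun δ' => by
    obtain ⟨γ, hγ⟩ := Q.e_in_th h2 (hd Q) hN hq ω (δ' • ⟨P.p, hpW⟩)
    exact ⟨γ, by rw [← swap, hγ, hQt]⟩) ⟨δ, hmove⟩
  obtain ⟨-, -, -, -, hstab⟩ := Q.moving_step h2 (hd Q) hN hq (x := ⟨P.p, hpW⟩)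
    (fun h => P.p_ne (congrArg Subtype.val h)) (fun δ' => by
      obtain ⟨a, ha⟩ := P.e_in_th h2 (hd P) hN hq ω (δ' • x)
      exact ⟨a, by rw [swap]; exact ha⟩) ⟨δ, by rw [swap]; exact hmove⟩
  have hinj : Function.Injective fun d : F => P.e (d • x) • ω := by
    intro d d' h
    simp only [hrel] at h
    have h' : P.t (d * d / γ₀ + d' * d' / γ₀) • ω = ω := by
      rw [add_comm, P.t_add, mul_smul, h, ← mul_smul, ← P.t_add, ← two_mul, h2, zero_mul, t, tg_zero,
        one_smul]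
    have h0 := hstab _ h'
    rw [← add_div, div_eq_zero_iff, or_iff_left hγ0] at h0
    have : (d + d') * (d + d') = 0 := by linear_combination h0 + d * d' * h2
    rw [mul_self_eq_zero] at this
    rw [eq_neg_of_add_eq_zero_left this, neg_F h2]
  have hle : Nat.card F ≤ Nat.card ({ω, tg P.alt (x : V) γ₀ • ω} : Set Ω) :=
    Nat.card_le_card_of_injective (fun d => ⟨_, (htwo d)⟩) fun d d' h => hinj (congrArg Subtype.val h)
  rw [Nat.card_coe_set_eq] at hle
  have := (Set.ncard_insert_le ω ({tg P.alt (x : V) γ₀ • ω} : Set Ω))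
  rw [Set.ncard_singleton] at this
  omega

end even

/-! ### Conclusion -/

theorem odd_contra (h2 : (2 : F) ≠ 0) (hd : P.Small Ω) (hN : NoFix B Ω) (hq : 3 ≤ Nat.card F)
    (hexc : Nat.card F = 3 → Nat.card F * Nat.card F < Nat.card P.W) [Nonempty Ω]
    {u₀ : P.W} (hu₀ : u₀ ≠ 0) : False := by
  obtain ⟨ω⟩ := ‹Nonempty Ω›
  by_cases hbot : P.D ω = ⊥
  · refine P.A_ne_top hN ω (eq_top_iff.mpr fun a _ => ?_)
    have hall : ∀ w : P.W, ∃ c, P.e w • ω = P.t c • ω := fun w => by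
      refine P.mem_W0_iff.mp ?_
      rw [← P.ann_ann (P.W0 ω), show P.ann (P.W0 ω) = ⊥ from hbot]
      intro u hu
      rw [AddSubgroup.mem_bot.mp hu]
      simp [psi_apply]
    obtain ⟨v, hv⟩ := P.exists_pair_W u₀ hu₀ (a / 2)
    obtain ⟨c, hc⟩ := hall v
    obtain ⟨d, hdd⟩ := hall u₀
    have l : (P.e v * P.e u₀) • ω = (P.e u₀ * P.e v) • ω := by
      rw [mul_smul, mul_smul, hdd, hc, ← mul_smul (P.e v), ← P.t_e, mul_smul, hc, ← mul_smul (P.e u₀),
        ← P.t_e, mul_smul, hdd, ← mul_smul, ← mul_smul, ← P.t_add, ← P.t_add, add_comm]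
    rw [P.e_mul, P.e_mul, add_comm u₀ v, mul_smul, mul_smul, hv, alt_flip P.alt (u₀ : V) (v : V), hv] at l
    obtain ⟨f, hf⟩ := hall (v + u₀)
    rw [hf, ← mul_smul, ← mul_smul, ← P.t_add, ← P.t_add] at l
    have e : a / 2 + f = a + (-(a / 2) + f) := by
      have : a / 2 + a / 2 = a := by rw [← two_mul, mul_div_cancel₀ _ h2]
      linear_combination this
    rw [e, P.t_add, mul_smul] at l
    rw [P.mem_A]
    apply MulAction.injective (P.t (-(a / 2) + f))
    show P.t _ • _ = _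
    rw [← mul_smul, ← P.t_add, add_comm, P.t_add, mul_smul]
    exact l
  obtain ⟨u, hu, hu0⟩ : ∃ u ∈ P.D ω, u ≠ 0 := by
    by_contra hc
    push Not at hc
    exact hbot ((AddSubgroup.eq_bot_iff_forall _).mpr hc)
  by_cases hline : ∀ v ∈ P.D ω, ∃ a : F, v = a • u
  · exact P.line_odd h2 hd hN hq hexc hu hu0 hline
  · push Not at hline
    exact P.top_odd h2 hd hN hq hexc hu0 (P.shape hd hN hq ω hu hu0 hline)

end Frame

/-- in degree below the number of points some root group of transvections fixes a point -/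
theorem exists_fixed_root (hA : B.IsAlt) (hB : B.SeparatingLeft) {Ω : Type*} [MulAction (isom B) Ω] [Finite Ω]
    [Nonempty Ω] (hq : 3 ≤ Nat.card F) (hV : Nat.card F ^ 4 ≤ Nat.card V)
    (hexc : Nat.card F = 3 → Nat.card F ^ 4 < Nat.card V)
    (hd : Nat.card Ω * (Nat.card F - 1) + 1 < Nat.card V) :
    ∃ (v : V) (ω : Ω), v ≠ 0 ∧ ∀ c : F, tg hA v c • ω = ω := by
  by_contra hc
  push Not at hc
  have hN : Frame.NoFix B Ω := fun _ v hv ω => hc v ω hv
  obtain ⟨p, hp⟩ : ∃ p : V, p ≠ 0 := by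
    by_contra h
    push Not at h
    have : Subsingleton V := ⟨fun a b => by rw [h a, h b]⟩
    have h1 : 3 ^ 4 ≤ Nat.card F ^ 4 := Nat.pow_le_pow_left hq 4
    rw [Nat.card_of_subsingleton (0 : V)] at hV
    omega
  obtain ⟨P, -⟩ := exists_frame hA hB hp
  have hqq : 0 < Nat.card F * Nat.card F := by positivity
  have hW : Nat.card F * Nat.card F ≤ Nat.card P.W := by
    rw [P.card_V, show Nat.card F ^ 4 = Nat.card F * Nat.card F * (Nat.card F * Nat.card F) by ring] at hV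
    exact Nat.le_of_mul_le_mul_left hV hqq
  have hexcW : Nat.card F = 3 → Nat.card F * Nat.card F < Nat.card P.W := fun h => by
    have := hexc h
    rw [P.card_V, show Nat.card F ^ 4 = Nat.card F * Nat.card F * (Nat.card F * Nat.card F) by ring] at this
    exact Nat.lt_of_mul_lt_mul_left this
  obtain ⟨u, hu⟩ : ∃ u : P.W, u ≠ 0 := by
    by_contra h
    push Not at h
    have : Subsingleton P.W := ⟨fun a b => by rw [h a, h b]⟩
    rw [Nat.card_of_subsingleton (0 : P.W)] at hW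
    have : 9 ≤ Nat.card F * Nat.card F := Nat.mul_le_mul hq hq
    omega
  have hsmall : ∀ Q : Frame B, Q.Small Ω := fun Q => by rw [Frame.Small, ← Q.card_V]; exact hd
  by_cases h2 : (2 : F) = 0
  · refine P.even_contra h2 hsmall hN ?_ hu
    by_contra h
    have : Fintype F := Fintype.ofFinite F
    have h3 : Fintype.card F = 3 := by rw [← Nat.card_eq_fintype_card]; omega
    have hz : ((Fintype.card F : ℕ) : F) = 0 := FiniteField.cast_card_eq_zero F
    rw [h3, Nat.cast_ofNat] at hz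
    exact one_ne_zero (by linear_combination hz - h2 : (1 : F) = 0)
  · exact P.odd_contra h2 (hsmall P) hN hq hexcW hu

end CfsgLib.KnownSimple.SpMin
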