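import Cfsg.Prelude.Def_Classical
import Cfsg.Agent.Lib.Sp.Group
import Cfsg.Agent.Lib.KnownSimple.SpMinIndex.FixedPoint
import Cfsg.Agent.Lib.KnownSimple.SpMinIndex.Endgame

set_option autoImplicit false
set_option linter.unusedSimpArgs false
set_option linter.unusedSectionVars false
set_option linter.deprecated false

/-!
Minimal index of a proper subgroup of `PSp_2m(q)`, `q ≥ 3`.
-/

namespace CfsgLib.KnownSimple.SpMin

open CfsgLib.Sp
open LinearMap (BilinForm)
open scoped Pointwise

variable {F V : Type*} [Field F] [Finite F] [AddCommGroup V] [Module F V] [Finite V] {B : BilinForm F V}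

theorem index_ge (hA : B.IsAlt) (hB : B.SeparatingLeft) {m : ℕ} (hdim : Module.finrank F V = 2 * m)
    (hm : 2 ≤ m) (hq : 3 ≤ Nat.card F) (hexc : ¬ (m = 2 ∧ Nat.card F = 3)) (H : Subgroup (isom B)) (hH : H ≠ ⊤) :
    Nat.card V ≤ H.index * (Nat.card F - 1) + 1 := by
  by_contra hlt
  push Not at hlt
  have hV := card_V_eq hA hB hdim
  have hpow : ∀ {a b : ℕ}, a ≤ b → Nat.card F ^ a ≤ Nat.card F ^ b := Nat.pow_le_pow_right (by omega)
  obtain ⟨v, ω, hv, hfix⟩ := exists_fixed_root (Ω := isom B ⧸ H) hA hB hq (by rw [hV]; exact hpow (by omega))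
    (fun h3 => by rw [hV]; exact Nat.pow_lt_pow_right (by omega) (by omega)) (by exact hlt)
  obtain ⟨g, rfl⟩ := QuotientGroup.mk_surjective ω
  have hroot : ∀ c : F, tg hA ((g⁻¹).1 v) c ∈ H := fun c => by
    have h := hfix c
    rw [MulAction.Quotient.smul_coe, QuotientGroup.eq, smul_eq_mul] at h
    have h' := H.inv_mem h
    rw [mul_inv_rev, inv_inv, ← mul_assoc] at h'
    rw [← tg_conj hA g⁻¹ v c, inv_inv]
    exact h'
  have := endgame hA hB hdim hq hm H hH
    (v₀ := (g⁻¹).1 v) (fun h => hv ((g⁻¹).1.map_eq_zero_iff.mp h)) hroot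
  omega

theorem exists_index (hA : B.IsAlt) (hB : B.SeparatingLeft) (hne : ∃ p : V, p ≠ 0) :
    ∃ H : Subgroup (isom B), H.index * (Nat.card F - 1) + 1 = Nat.card V ∧ Subgroup.center (isom B) ≤ H := by
  classical
  obtain ⟨p, hp⟩ := hne
  let L : V → Set V := fun x => Set.range fun c : F => c • x
  have hsm : ∀ (g : isom B) x, g • L x = L (g.1 x) := by
    intro g x
    ext y
    constructor
    · rintro ⟨_, ⟨c, rfl⟩, rfl⟩
      exact ⟨c, (map_smul g.1 c x).symm⟩
    · rintro ⟨c, rfl⟩
      exact ⟨_, ⟨c, rfl⟩, map_smul g.1 c x⟩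
  have horb : MulAction.orbit (isom B) (L p) = L '' {0}ᶜ := by
    ext y
    constructor
    · rintro ⟨g, rfl⟩
      exact ⟨g.1 p, fun h => hp (g.1.map_eq_zero_iff.mp h), (hsm g p).symm⟩
    · rintro ⟨x, hx, rfl⟩
      obtain ⟨γ, hγ, hγp⟩ := transitive_ne_zero hA hB p x hp hx
      exact ⟨⟨γ, transvGroup_le_isom hγ⟩, (hsm _ p).trans (congrArg L hγp)⟩
  refine ⟨MulAction.stabilizer (isom B) (L p), ?_, ?_⟩
  · rw [MulAction.index_stabilizer, horb]
    have := Fintype.ofFinite V
    have := Fintype.ofFinite F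
    have hc : (Finset.univ.erase (0 : V)).card = ((Finset.univ.erase (0 : V)).image L).card * (Nat.card F - 1) := by
      rw [Finset.card_eq_sum_card_image L (Finset.univ.erase (0 : V)), Finset.sum_const_nat]
      intro y hy
      obtain ⟨x, hx, rfl⟩ := Finset.mem_image.mp hy
      have hx0 : x ≠ 0 := Finset.ne_of_mem_erase hx
      rw [Nat.card_eq_fintype_card, ← Fintype.card_units]
      refine (Finset.card_bij (fun (c : Fˣ) _ => (c : F) • x) ?_ ?_ ?_).symm
      · intro c _
        simp only [Finset.mem_filter, Finset.mem_erase, Finset.mem_univ, and_true]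
        refine ⟨smul_ne_zero c.ne_zero hx0, ?_⟩
        ext z
        constructor
        · rintro ⟨d, rfl⟩; exact ⟨d * c, (smul_smul d (c : F) x).symm⟩
        · rintro ⟨d, rfl⟩; exact ⟨d * (c : F)⁻¹, by simp [smul_smul]⟩
      · intro c _ c' _ h
        exact Units.ext (smul_left_injective F hx0 h)
      · intro z hz
        simp only [Finset.mem_filter, Finset.mem_erase, Finset.mem_univ, and_true] at hz
        obtain ⟨c, hc⟩ : z ∈ L x := hz.2 ▸ ⟨1, one_smul _ _⟩
        exact ⟨Units.mk0 c (by rintro rfl; exact hz.1 (by simpa using hc.symm)), Finset.mem_univ _, hc⟩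
    rw [Finset.card_erase_of_mem (Finset.mem_univ _), Finset.card_univ, ← Nat.card_eq_fintype_card] at hc
    have hi : (L '' {0}ᶜ).ncard = ((Finset.univ.erase (0 : V)).image L).card := by
      rw [← Set.ncard_coe_finset, Finset.coe_image]
      congr 2
      ext; simp
    rw [hi, ← hc]
    have : 0 < Nat.card V := Nat.card_pos
    omega
  · intro z hz
    show z • L p = L p
    rw [hsm]
    obtain ⟨x, hx⟩ : ∃ x, B p x = 1 := by
      obtain ⟨P, rfl⟩ := exists_frame hA hB hp
      exact ⟨P.p', P.pair⟩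
    have h := congrArg (fun k : isom B => k.1 (z.1 x)) (tg_conj hA z p (1 : F))
    rw [← Subgroup.mem_center_iff.mp hz (tg hA p 1), mul_inv_cancel_right] at h
    have hxz : B (z.1 x) (z.1 p) = -1 := by rw [z.2, alt_flip hA p x, hx]
    have hcz : B (z.1 x) p • p = B (z.1 x) (z.1 p) • z.1 p := by simpa [tg_apply] using h
    rw [hxz, neg_smul, one_smul] at hcz
    have e : z.1 p = (-(B (z.1 x) p)) • p := by rw [neg_smul, hcz, neg_neg]
    rw [e]
    have hne : -(B (z.1 x) p) ≠ 0 := fun h0 => hp (z.1.map_eq_zero_iff.mp (by rw [e, h0, zero_smul]))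
    ext y
    constructor
    · rintro ⟨c, rfl⟩; exact ⟨c * (-(B (z.1 x) p)), (smul_smul _ _ _).symm⟩
    · rintro ⟨c, rfl⟩; exact ⟨c * (-(B (z.1 x) p))⁻¹, by simp only [smul_smul, inv_mul_cancel_right₀ hne]⟩

/-- the symplectic matrix group as an isometry group -/
noncomputable def spEquiv (m : ℕ) (F : Type*) [Field F] :
    Matrix.symplecticGroup (Fin m) F ≃* isom (sympBilin m F) :=
  MulEquiv.ofBijective ((toEquiv m F).codRestrict _ toEquiv_mem_isom)
    ⟨fun _ _ h => toEquiv_injective (congrArg Subtype.val h),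
      fun g => by obtain ⟨A, hA⟩ := exists_toEquiv_eq g.2; exact ⟨A, Subtype.ext hA⟩⟩

theorem psp_min_index {F : Type*} [Field F] [Fintype F] {q : ℕ} (hF : Fintype.card F = q) (m : ℕ) (hm : 2 ≤ m)
    (hq : 3 ≤ q) (hexc : ¬ (m = 2 ∧ q = 3)) :
    (∀ H : Subgroup (Cfsg.PSp m F), H ≠ ⊤ → (q ^ (2 * m) - 1) / (q - 1) ≤ H.index) ∧
      ∃ H : Subgroup (Cfsg.PSp m F), H.index = (q ^ (2 * m) - 1) / (q - 1) := by
  classical
  have hA := sympBilin_isAlt (F := F) (m := m)
  have hB := sympBilin_separatingLeft (F := F) (m := m)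
  have hdim : Module.finrank F (Fin m ⊕ Fin m → F) = 2 * m := by
    rw [Module.finrank_fintype_fun_eq_card]; simp; ring
  have hFq : Nat.card F = q := by rw [Nat.card_eq_fintype_card, hF]
  have hV := card_V_eq hA hB hdim
  rw [hFq] at hV
  let e := spEquiv m F
  let π := QuotientGroup.mk' (Subgroup.center (Matrix.symplecticGroup (Fin m) F))
  have hsurj : Function.Surjective π := QuotientGroup.mk'_surjective _
  constructor
  · intro H hH
    have hne : (H.comap π).map e.toMonoidHom ≠ ⊤ := by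
      intro h
      apply hH
      rw [← Subgroup.map_top_of_surjective e.toMonoidHom e.surjective,
        (Subgroup.map_injective (f := e.toMonoidHom) e.injective).eq_iff] at h
      rw [← Subgroup.map_comap_eq_self_of_surjective hsurj H, h, Subgroup.map_top_of_surjective _ hsurj]
    have h2 := index_ge hA hB hdim hm (by omega) (by rw [hFq]; exact hexc) _ hne
    rw [Subgroup.index_map_of_bijective (f := e.toMonoidHom) e.bijective, Subgroup.index_comap_of_surjective H hsurj, hFq, hV] at h2
    exact Nat.div_le_of_le_mul (by rw [mul_comm (q - 1)]; omega)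
  · obtain ⟨H, hH, hZ⟩ := exists_index hA hB (by
      have : Nonempty (Fin m) := ⟨⟨0, by omega⟩⟩
      exact ⟨fun _ => 1, fun h => one_ne_zero (congrFun h (Sum.inl (Classical.arbitrary (Fin m))))⟩)
    rw [hFq, hV] at hH
    refine ⟨(H.comap e.toMonoidHom).map π, ?_⟩
    rw [Subgroup.index_map, QuotientGroup.ker_mk', MonoidHom.range_eq_top.mpr hsurj, Subgroup.index_top,
      mul_one, sup_of_le_left, Subgroup.index_comap_of_surjective (f := e.toMonoidHom) H e.surjective]
    · symm
      apply Nat.div_eq_of_eq_mul_left (by omega)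
      omega
    intro z hz
    refine hZ (Subgroup.mem_center_iff.mpr fun g => ?_)
    obtain ⟨g, rfl⟩ := e.surjective g
    show e g * e z = e z * e g
    rw [← map_mul, ← map_mul, Subgroup.mem_center_iff.mp hz g]

end CfsgLib.KnownSimple.SpMin
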