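import Cfsg.Agent.Lib.KnownSimple.SpMinIndex.Basic
import Cfsg.Agent.Lib.KnownSimple.HeisenbergCount

set_option autoImplicit false
set_option linter.unusedSimpArgs false
set_option linter.unusedSectionVars false

/-!
Orbits of the unipotent radical of a point: the stabiliser data of an orbit and its dual subgroup.
-/

namespace CfsgLib.KnownSimple.SpMin

open CfsgLib.Sp CfsgLib.KnownSimple.HeisenbergCount
open LinearMap (BilinForm)
open scoped Pointwise

variable {F V : Type*} [Field F] [AddCommGroup V] [Module F V] {B : BilinForm F V}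

namespace Frame

variable (P : Frame B)

/-- root group of the point -/
def t (a : F) : isom B := tg P.alt P.p a

/-- unipotent radical of the point modulo the root group -/
def e (w : P.W) : isom B := eg P.alt P.p (w : V)

/-- element of the Levi factor -/
def lev (g : P.Gw) (c : Fˣ) : isom B := g.1 * P.zc c

theorem t_add (a b : F) : P.t (a + b) = P.t a * P.t b := (tg_mul P.alt P.p a b).symm

theorem t_e (a : F) (w : P.W) : P.t a * P.e w = P.e w * P.t a := tg_comm_eg P.alt (P.p_perp w) a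

theorem e_mul (w v : P.W) : P.e w * P.e v = P.t (B (v : V) (w : V)) * P.e (w + v) :=
  eg_mul P.alt (P.p_perp w) (P.p_perp v)

theorem e_zero : P.e 0 = 1 := eg_zero P.alt P.p

theorem gw_t (g : P.Gw) (a : F) : g.1 * P.t a = P.t a * g.1 := by
  have h := tg_conj P.alt g.1 P.p a
  rw [g.2.1] at h
  exact mul_inv_eq_iff_eq_mul.mp h

theorem gw_e (g : P.Gw) (w : P.W) : g.1 * P.e w = P.e (P.act g w) * g.1 := by
  have h := eg_conj P.alt g.1 P.p (w : V)
  rw [g.2.1] at h
  exact mul_inv_eq_iff_eq_mul.mp h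

theorem zc_t (c : Fˣ) (a : F) : P.zc c * P.t a = P.t ((c : F) * c * a) * P.zc c := by
  have h := tg_conj P.alt (P.zc c) P.p a
  rw [P.zc_p, tg_smul, show a * (c : F) * c = (c : F) * c * a by ring] at h
  exact mul_inv_eq_iff_eq_mul.mp h

theorem zc_e (c : Fˣ) (w : P.W) : P.zc c * P.e w = P.e ((c : F) • w) * P.zc c := by
  have h := eg_conj P.alt (P.zc c) P.p (w : V)
  rw [P.zc_p, P.zc_W] at h
  have hw : B (w : V) ((c : F) • P.p) = 0 := by rw [map_smul, w.2.1, smul_zero]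
  have e1 := eg_swap P.alt (p := (c : F) • P.p) (x := (w : V))
    (by rw [map_smul, LinearMap.smul_apply, P.p_perp, smul_zero]) 1
  rw [one_smul, one_smul, ← eg_swap P.alt (P.p_perp w) (c : F)] at e1
  rw [e1] at h
  exact mul_inv_eq_iff_eq_mul.mp h

theorem lev_t (g : P.Gw) (c : Fˣ) (a : F) : P.lev g c * P.t a = P.t ((c : F) * c * a) * P.lev g c := by
  rw [lev, mul_assoc, P.zc_t, ← mul_assoc, P.gw_t, mul_assoc]

theorem lev_e (g : P.Gw) (c : Fˣ) (w : P.W) :
    P.lev g c * P.e w = P.e ((c : F) • P.act g w) * P.lev g c := by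
  rw [lev, mul_assoc, P.zc_e, ← mul_assoc, P.gw_e, P.act_smul, mul_assoc]

theorem lev_mul (g g' : P.Gw) (c c' : Fˣ) : P.lev g c * P.lev g' c' = P.lev (g * g') (c * c') := by
  show g.1 * P.zc c * (g'.1 * P.zc c') = g.1 * g'.1 * P.zc (c * c')
  rw [← P.zc_mul, mul_assoc, ← mul_assoc (P.zc c), ← P.zc_comm c g'.2]
  simp only [mul_assoc]

theorem lev_one : P.lev 1 1 = 1 := by simp [lev, P.zc_one]

theorem lev_gw (g : P.Gw) : P.lev g 1 = g.1 := by simp [lev, P.zc_one]

variable {Ω : Type*} [MulAction (isom B) Ω]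

/-- orbit of the root group -/
def th (ω : Ω) : Set Ω := zorb P.t ω

theorem mem_th {ω x : Ω} : x ∈ P.th ω ↔ ∃ a, P.t a • ω = x := Iff.rfl

theorem th_self (ω : Ω) : ω ∈ P.th ω := zorb_self P.t P.t_add ω

theorem th_eq_iff {ω x : Ω} : P.th x = P.th ω ↔ x ∈ P.th ω :=
  ⟨fun h => h ▸ P.th_self x, zorb_eq_of_mem P.t P.t_add⟩

theorem t_th (a : F) (ω : Ω) : P.t a • P.th ω = P.th ω := t_smul_zorb P.t P.t_add a ω

theorem th_t (a : F) (ω : Ω) : P.th (P.t a • ω) = P.th ω := zorb_shift P.t P.t_add a ω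

theorem e_th (w : P.W) (ω : Ω) : P.e w • P.th ω = P.th (P.e w • ω) :=
  smul_zorb P.t (π := AddEquiv.refl F) (fun a => (P.t_e a w).symm) ω

theorem gw_th (g : P.Gw) (ω : Ω) : g.1 • P.th ω = P.th (g.1 • ω) :=
  smul_zorb P.t (π := AddEquiv.refl F) (fun a => P.gw_t g a) ω

theorem e_e_th (w v : P.W) (ω : Ω) : P.e w • P.e v • P.th ω = P.e (w + v) • P.th ω := by
  rw [← mul_smul, P.e_mul, mul_smul, P.e_th, P.t_th]

theorem e_th_zero (ω : Ω) : P.e 0 • P.th ω = P.th ω := by rw [P.e_zero, one_smul]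

/-- stabiliser in the root group -/
def A (ω : Ω) : AddSubgroup F := stabA P.t P.t_add ω

theorem mem_A {ω : Ω} {a : F} : a ∈ P.A ω ↔ P.t a • ω = ω := Iff.rfl

/-- stabiliser of a root group orbit in the orthogonal of the pair -/
def W0 (ω : Ω) : AddSubgroup P.W where
  carrier := {w | P.e w • P.th ω = P.th ω}
  zero_mem' := P.e_th_zero ω
  add_mem' := by
    intro w v hw hv
    show P.e (w + v) • P.th ω = P.th ω
    rw [← P.e_e_th, hv, hw]
  neg_mem' := by
    intro w hw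
    show P.e (-w) • P.th ω = P.th ω
    conv_lhs => rw [← (hw : P.e w • P.th ω = P.th ω)]
    rw [P.e_e_th, neg_add_cancel, P.e_th_zero]

theorem mem_W0 {ω : Ω} {w : P.W} : w ∈ P.W0 ω ↔ P.e w • P.th ω = P.th ω := Iff.rfl

theorem mem_W0_iff {ω : Ω} {w : P.W} : w ∈ P.W0 ω ↔ ∃ a, P.e w • ω = P.t a • ω := by
  rw [P.mem_W0, P.e_th, P.th_eq_iff, P.mem_th]
  exact ⟨fun ⟨a, h⟩ => ⟨a, h.symm⟩, fun ⟨a, h⟩ => ⟨a, h.symm⟩⟩

/-- orbit of the unipotent radical -/
def orb (ω : Ω) : Set Ω := {x | ∃ a w, x = P.t a • P.e w • ω}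

theorem orb_self (ω : Ω) : ω ∈ P.orb ω := ⟨0, 0, by rw [t, tg_zero, P.e_zero, one_smul, one_smul]⟩

theorem e_mem_orb (w : P.W) (ω : Ω) : P.e w • ω ∈ P.orb ω := ⟨0, w, by rw [t, tg_zero, one_smul]⟩

theorem t_mem_orb (a : F) (ω : Ω) : P.t a • ω ∈ P.orb ω := ⟨a, 0, by rw [P.e_zero, one_smul]⟩

theorem orb_subset {x ω : Ω} (h : x ∈ P.orb ω) : P.orb x ⊆ P.orb ω := by
  obtain ⟨a, w, rfl⟩ := h
  rintro _ ⟨b, v, rfl⟩
  refine ⟨b + a + B (w : V) (v : V), v + w, ?_⟩
  simp only [← mul_smul]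
  congr 1
  rw [← mul_assoc (P.e v), ← P.t_e, mul_assoc (P.t a), P.e_mul, ← mul_assoc, ← mul_assoc,
    ← P.t_add, ← P.t_add]

theorem orb_eq {x ω : Ω} (h : x ∈ P.orb ω) : P.orb x = P.orb ω := by
  refine le_antisymm (P.orb_subset h) (P.orb_subset ?_)
  obtain ⟨a, w, rfl⟩ := h
  refine ⟨-a, -w, ?_⟩
  simp only [← mul_smul]
  rw [← mul_assoc (P.e (-w)), ← P.t_e, mul_assoc (P.t a), P.e_mul, ← mul_assoc, ← P.t_add,
    neg_add_cancel, ← mul_assoc, ← P.t_add, neg_add_cancel, P.e_zero, mul_one, zero_add]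
  simp [P.alt.self_eq_zero, t, tg_zero]

theorem A_orb {x ω : Ω} (h : x ∈ P.orb ω) : P.A x = P.A ω := by
  obtain ⟨a, w, rfl⟩ := h
  ext b
  rw [P.mem_A, P.mem_A, ← mul_smul (P.t a), ← mul_smul (P.t b),
    show P.t b * (P.t a * P.e w) = P.t a * P.e w * P.t b by
      rw [← mul_assoc, ← P.t_add, add_comm, P.t_add, mul_assoc, mul_assoc, P.t_e],
    mul_smul _ (P.t b)]
  exact ⟨fun h => MulAction.injective _ h, fun h => by rw [h]⟩

theorem W0_orb {x ω : Ω} (h : x ∈ P.orb ω) : P.W0 x = P.W0 ω := by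
  obtain ⟨a, w, rfl⟩ := h
  ext v
  rw [P.mem_W0, P.mem_W0, P.th_t, ← P.e_th, P.e_e_th, add_comm, ← P.e_e_th]
  exact ⟨fun h => MulAction.injective _ h, fun h => by rw [h]⟩

theorem lev_th (g : P.Gw) (c : Fˣ) (ω : Ω) : P.lev g c • P.th ω = P.th (P.lev g c • ω) := by
  let π : F ≃+ F :=
    { toFun := fun a => (c : F) * c * a
      invFun := fun a => ((c : F) * c)⁻¹ * a
      left_inv := fun a => inv_mul_cancel_left₀ (mul_ne_zero c.ne_zero c.ne_zero) a
      right_inv := fun a => mul_inv_cancel_left₀ (mul_ne_zero c.ne_zero c.ne_zero) a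
      map_add' := fun a b => mul_add _ a b }
  exact smul_zorb P.t (π := π) (fun a => P.lev_t g c a) ω

theorem lev_orb (g : P.Gw) (c : Fˣ) (ω : Ω) : P.lev g c • P.orb ω = P.orb (P.lev g c • ω) := by
  ext x
  constructor
  · rintro ⟨_, ⟨a, w, rfl⟩, rfl⟩
    refine ⟨(c : F) * c * a, (c : F) • P.act g w, ?_⟩
    simp only [← mul_smul]
    rw [← mul_assoc, P.lev_t, mul_assoc (P.t _), P.lev_e, ← mul_assoc]
  · rintro ⟨a, w, rfl⟩
    refine ⟨_, ⟨((c : F) * c)⁻¹ * a, P.act g⁻¹ ((c : F)⁻¹ • w), rfl⟩, ?_⟩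
    simp only [← mul_smul]
    rw [← mul_assoc, P.lev_t, mul_assoc (P.t _), P.lev_e, ← mul_assoc, P.act_inv', smul_inv_smul₀ c.ne_zero,
      mul_inv_cancel_left₀ (mul_ne_zero c.ne_zero c.ne_zero), mul_assoc]

theorem mem_A_mk (g : P.Gw) (c : Fˣ) (ω : Ω) (a : F) :
    (c : F) * c * a ∈ P.A (P.lev g c • ω) ↔ a ∈ P.A ω := by
  rw [P.mem_A, P.mem_A, ← mul_smul, ← P.lev_t, mul_smul]
  exact ⟨fun h => MulAction.injective _ h, fun h => by rw [h]⟩

theorem mem_W0_mk (g : P.Gw) (c : Fˣ) (ω : Ω) (w : P.W) :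
    (c : F) • P.act g w ∈ P.W0 (P.lev g c • ω) ↔ w ∈ P.W0 ω := by
  rw [P.mem_W0, P.mem_W0, ← P.lev_th, ← mul_smul, ← P.lev_e, mul_smul]
  exact ⟨fun h => MulAction.injective _ h, fun h => by rw [h]⟩

/-- scaled copy of the stabiliser -/
def scl (c : F) (A : AddSubgroup F) : Set F := {a | ∃ b ∈ A, a = c * c * b}

theorem A_mk (g : P.Gw) (c : Fˣ) (ω : Ω) : (P.A (P.lev g c • ω) : Set F) = scl (c : F) (P.A ω) := by
  ext a
  constructor
  · intro ha
    refine ⟨((c : F) * c)⁻¹ * a, (P.mem_A_mk g c ω _).mp ?_, ?_⟩ <;>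
      rw [mul_inv_cancel_left₀ (mul_ne_zero c.ne_zero c.ne_zero)]
    exact ha
  · rintro ⟨b, hb, rfl⟩
    exact (P.mem_A_mk g c ω b).mpr hb

theorem exists_addChar [Finite F] : ∃ χ : AddChar F ℂ, χ 1 ≠ 1 := by
  obtain ⟨χ, hχ⟩ := AddChar.exists_apply_ne_zero.mpr (one_ne_zero (α := F))
  exact ⟨χ, hχ⟩

variable [Finite F]

/-- a fixed non-trivial character -/
noncomputable def chi (F : Type*) [Field F] [Finite F] : AddChar F ℂ := Classical.choose (exists_addChar (F := F))

theorem chi_one : chi F 1 ≠ 1 := Classical.choose_spec (exists_addChar (F := F))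

/-- the pairing character -/
noncomputable def psi (u : P.W) : AddChar P.W ℂ :=
  (chi F).compAddMonoidHom ((B (u : V)).comp P.W.subtype).toAddMonoidHom

theorem psi_apply (u w : P.W) : P.psi u w = chi F (B (u : V) (w : V)) := rfl

theorem psi_add (u u' w : P.W) : P.psi (u + u') w = P.psi u w * P.psi u' w := by
  simp [psi_apply, AddChar.map_add_eq_mul]

/-- annihilator for the pairing -/
noncomputable def ann (H : AddSubgroup P.W) : AddSubgroup P.W where
  carrier := {u | ∀ w ∈ H, P.psi u w = 1}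
  zero_mem' := fun w _ => by simp [psi_apply]
  add_mem' := by
    intro a b ha hb w hw
    rw [P.psi_add, ha w hw, hb w hw, mul_one]
  neg_mem' := by
    intro a ha w hw
    have := P.psi_add a (-a) w
    rw [add_neg_cancel, ha w hw, one_mul] at this
    rw [← this]
    simp [psi_apply]

theorem mem_ann {H : AddSubgroup P.W} {u : P.W} : u ∈ P.ann H ↔ ∀ w ∈ H, P.psi u w = 1 := Iff.rfl

variable [Finite V]

theorem psi_bijective : Function.Bijective P.psi := by
  have hinj : Function.Injective P.psi := by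
    intro u u' h
    by_contra hne
    obtain ⟨v, hv⟩ := P.exists_pair_W (u - u') (sub_ne_zero.mpr hne) 1
    have e1 := P.psi_add (u - u') u' v
    rw [sub_add_cancel, ← h] at e1
    have hne0 : P.psi u v ≠ 0 := (AddChar.val_isUnit _ v).ne_zero
    have : P.psi (u - u') v = 1 := (mul_eq_right₀ hne0).mp e1.symm
    rw [P.psi_apply, hv] at this
    exact chi_one this
  have := Fintype.ofFinite P.W
  exact (Fintype.bijective_iff_injective_and_card _).mpr ⟨hinj, AddChar.card_eq.symm⟩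

theorem card_ann (H : AddSubgroup P.W) : Nat.card (P.ann H) * Nat.card H = Nat.card P.W := by
  rw [← card_triv_mul H]
  congr 1
  exact Nat.card_congr ((Equiv.ofBijective _ P.psi_bijective).subtypeEquiv fun u => P.mem_ann)

theorem ann_ann (H : AddSubgroup P.W) : P.ann (P.ann H) = H := by
  have hle : H ≤ P.ann (P.ann H) := fun w hw u hu => by
    have := hu w hw
    rw [P.psi_apply] at this ⊢
    rw [alt_flip P.alt (u : V) (w : V), AddChar.map_neg_eq_inv, this, inv_one]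
  have h1 := P.card_ann (P.ann H)
  have h2 := P.card_ann H
  have hpos : 0 < Nat.card (P.ann H) := Nat.card_pos
  have heq : Nat.card H = Nat.card (P.ann (P.ann H)) := by
    apply Nat.eq_of_mul_eq_mul_left hpos
    rw [h2, mul_comm, h1]
  exact (SetLike.coe_injective (Set.eq_of_subset_of_ncard_le hle
    (by rw [← Nat.card_coe_set_eq, ← Nat.card_coe_set_eq]; exact heq.ge) (Set.toFinite _))).symm

/-- dual of the stabiliser -/
noncomputable def D (ω : Ω) : AddSubgroup P.W := P.ann (P.W0 ω)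

theorem D_orb {x ω : Ω} (h : x ∈ P.orb ω) : P.D x = P.D ω := by rw [D, D, P.W0_orb h]

theorem mem_D_mk (g : P.Gw) (c : Fˣ) (ω : Ω) (u : P.W) :
    u ∈ P.D (P.lev g c • ω) ↔ (c : F) • P.act g⁻¹ u ∈ P.D ω := by
  have key : ∀ w : P.W, P.psi u ((c : F) • P.act g w) = P.psi ((c : F) • P.act g⁻¹ u) w := by
    intro w
    rw [P.psi_apply, P.psi_apply]
    congr 1
    have := P.act_B g (P.act g⁻¹ u) w
    rw [P.act_inv'] at this
    simp only [Submodule.coe_smul, map_smul, LinearMap.smul_apply, smul_eq_mul]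
    rw [this]
  constructor
  · intro h w hw
    rw [← key]
    exact h _ ((P.mem_W0_mk g c ω w).mpr hw)
  · intro h v hv
    obtain ⟨w, rfl⟩ : ∃ w, v = (c : F) • P.act g w :=
      ⟨P.act g⁻¹ ((c : F)⁻¹ • v), by rw [P.act_inv', smul_inv_smul₀ c.ne_zero]⟩
    rw [key]
    exact h w ((P.mem_W0_mk g c ω w).mp hv)

theorem mem_D_mk' (g : P.Gw) (c : Fˣ) (ω : Ω) (v : P.W) :
    (c : F)⁻¹ • P.act g v ∈ P.D (P.lev g c • ω) ↔ v ∈ P.D ω := by
  rw [P.mem_D_mk, P.act_smul, P.act_inv, smul_inv_smul₀ c.ne_zero]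

theorem card_D_mk (g : P.Gw) (c : Fˣ) (ω : Ω) : Nat.card (P.D (P.lev g c • ω)) = Nat.card (P.D ω) := by
  refine (Nat.card_congr (Equiv.subtypeEquiv
    { toFun := fun v => (c : F)⁻¹ • P.act g v
      invFun := fun u => (c : F) • P.act g⁻¹ u
      left_inv := fun v => by dsimp only; rw [P.act_smul, P.act_inv, smul_inv_smul₀ c.ne_zero]
      right_inv := fun u => by dsimp only; rw [P.act_smul, P.act_inv', inv_smul_smul₀ c.ne_zero] }
    fun v => (P.mem_D_mk' g c ω v).symm)).symm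

variable [Finite Ω]

theorem card_th (ω : Ω) : (P.th ω).ncard * Nat.card (P.A ω) = Nat.card F :=
  addAct_card (fun a x => P.t a • x) (fun x => by simp [t, tg_zero])
    (fun a b x => by simp [P.t_add, mul_smul]) ω

theorem card_orb (ω : Ω) : (P.orb ω).ncard = Nat.card (P.D ω) * (P.th ω).ncard := by
  classical
  have : Fintype Ω := Fintype.ofFinite Ω
  have hrange : (Set.range fun w => P.e w • P.th ω).ncard * Nat.card (P.W0 ω) = Nat.card P.W := by
    let act : P.W → {s : Set Ω // ∀ a, P.t a • s = s} → {s : Set Ω // ∀ a, P.t a • s = s} := fun w s =>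
      ⟨P.e w • s.1, fun a => by rw [← mul_smul, P.t_e, mul_smul, s.2]⟩
    have h := addAct_card act (fun s => Subtype.ext (by show P.e 0 • s.1 = s.1; rw [P.e_zero, one_smul]))
      (fun w v s => Subtype.ext (by
        show P.e (w + v) • s.1 = P.e w • P.e v • s.1
        rw [← mul_smul (P.e w), P.e_mul, mul_smul, ← mul_smul (P.t _), P.t_e, mul_smul, s.2]))
      ⟨P.th ω, fun a => P.t_th a ω⟩
    rw [← Set.ncard_image_of_injective _ Subtype.val_injective, ← Set.range_comp] at h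
    refine Eq.trans ?_ h
    congr 1
    refine Nat.card_congr (Equiv.subtypeEquivRight fun w => ?_)
    rw [P.mem_W0]
    exact ⟨fun hh => Subtype.ext hh, fun hh => congrArg Subtype.val hh⟩
  have hD := P.card_ann (P.W0 ω)
  have hrD : (Set.range fun w => P.e w • P.th ω).ncard = Nat.card (P.D ω) :=
    Nat.eq_of_mul_eq_mul_right (Nat.card_pos (α := P.W0 ω)) (hrange.trans hD.symm)
  have hfib : ∀ s ∈ (P.orb ω).toFinset.image P.th,
      ((P.orb ω).toFinset.filter fun x => P.th x = s).card = (P.th ω).ncard := by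
    intro s hs
    obtain ⟨x, hx, rfl⟩ := Finset.mem_image.mp hs
    rw [Set.mem_toFinset] at hx
    have e1 : (P.orb ω).toFinset.filter (fun y => P.th y = P.th x) = (P.th x).toFinset := by
      ext y
      simp only [Finset.mem_filter, Set.mem_toFinset]
      refine ⟨fun h => P.th_eq_iff.mp h.2, fun h => ⟨?_, P.th_eq_iff.mpr h⟩⟩
      obtain ⟨a, rfl⟩ := P.mem_th.mp h
      rw [← P.orb_eq hx]
      exact P.t_mem_orb a x
    rw [e1, ← Set.ncard_eq_toFinset_card']
    have h1 := P.card_th x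
    rw [P.A_orb hx, ← P.card_th ω] at h1
    exact Nat.eq_of_mul_eq_mul_right Nat.card_pos h1
  have himg : ((P.orb ω).toFinset.image P.th).card = (Set.range fun w => P.e w • P.th ω).ncard := by
    rw [← Set.ncard_coe_finset, Finset.coe_image, Set.coe_toFinset]
    congr 1
    ext s
    constructor
    · rintro ⟨_, ⟨a, w, rfl⟩, rfl⟩
      exact ⟨w, by dsimp only; rw [P.th_t, P.e_th]⟩
    · rintro ⟨w, rfl⟩
      exact ⟨P.e w • ω, P.e_mem_orb w ω, (P.e_th w ω).symm⟩
  rw [Set.ncard_eq_toFinset_card', Finset.card_eq_sum_card_image P.th, Finset.sum_congr rfl hfib,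
    Finset.sum_const, smul_eq_mul, himg, hrD]

/-- the space splits off the pair -/
theorem card_V : Nat.card V = Nat.card F * Nat.card F * Nat.card P.W := by
  rw [← Nat.card_prod, ← Nat.card_prod]
  refine Nat.card_congr
    { toFun := fun x => ((B x P.p', -B x P.p), P.proj x)
      invFun := fun z => (z.2 : V) + z.1.1 • P.p + z.1.2 • P.p'
      left_inv := fun x => (P.decomp x).symm
      right_inv := fun z => ?_ }
  obtain ⟨⟨a, b⟩, w⟩ := z
  refine Prod.ext (Prod.ext ?_ ?_) (Subtype.ext ?_)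
  · simp [P.alt.self_eq_zero, P.pair, w.2.2]
  · simp [P.alt.self_eq_zero, P.p'p, w.2.1]
  · simp only [proj, map_add, map_smul, LinearMap.add_apply, LinearMap.smul_apply, P.alt.self_eq_zero,
      P.pair, P.p'p, w.2.1, w.2.2, smul_eq_mul]
    module

end Frame

end CfsgLib.KnownSimple.SpMin
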